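import Mathlib.GroupTheory.GroupAction.MultipleTransitivity
import Mathlib.GroupTheory.GroupAction.SubMulAction
import Mathlib.GroupTheory.PGroup
import Mathlib.Algebra.Group.Action.Pointwise.Set.Basic

/-!
# A 2-transitive group with an abelian normal subgroup of the point stabiliser

The configuration, trivial intersection, and the lines.
-/

set_option autoImplicit false
set_option linter.unusedSectionVars false

namespace Cfsg.Agent.CG26.ONan

open MulAction

/-- For each point an elementary abelian normal subgroup of its stabiliser, not semiregular. -/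
structure Conf (G X : Type*) [Group G] [MulAction G X] (p : ℕ) where
  A : X → Subgroup G
  le_stab : ∀ (x : X) (a : G), a ∈ A x → a • x = x
  conj : ∀ (g : G) (x : X) (a : G), a ∈ A x → g * a * g⁻¹ ∈ A (g • x)
  comm : ∀ (x : X) (a b : G), a ∈ A x → b ∈ A x → a * b = b * a
  expo : ∀ (x : X) (a : G), a ∈ A x → a ^ p = 1
  tt : ∀ (x y x' y' : X), x ≠ y → x' ≠ y' → ∃ g : G, g • x = x' ∧ g • y = y'
  faithful : ∀ g : G, (∀ x : X, g • x = x) → g = 1
  notsemi : ∀ x y : X, x ≠ y → ∃ a ∈ A x, a ≠ 1 ∧ a • y = y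

namespace Conf

variable {G X : Type*} [Group G] [MulAction G X] [Finite G] [Finite X] {p : ℕ}
  [Fact p.Prime] (C : Conf G X p)

theorem conj_mem {g : G} {x : X} (hg : g • x = x) {a : G} (ha : a ∈ C.A x) :
    g * a * g⁻¹ ∈ C.A x := by
  have := C.conj g x a ha
  rwa [hg] at this

theorem mem_smul_iff (g : G) (x : X) (a : G) : a ∈ C.A (g • x) ↔ g⁻¹ * a * g ∈ C.A x := by
  refine ⟨fun h => ?_, fun h => ?_⟩
  · have := C.conj g⁻¹ _ a h
    rwa [inv_smul_smul, inv_inv] at this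
  · have := C.conj g x _ h
    simpa [mul_assoc] using this

theorem card_conj (g : G) (H K : Subgroup G) (h : ∀ a, a ∈ K ↔ g⁻¹ * a * g ∈ H) :
    Nat.card K = Nat.card H :=
  Nat.card_congr
    { toFun := fun a => ⟨g⁻¹ * a * g, (h a).1 a.2⟩
      invFun := fun b => ⟨g * b * g⁻¹, (h _).2 (by simp [mul_assoc])⟩
      left_inv := fun a => Subtype.ext (by simp [mul_assoc])
      right_inv := fun b => Subtype.ext (by simp [mul_assoc]) }

theorem eq_of_le_card {H K : Subgroup G} (h : H ≤ K) (hc : Nat.card H = Nat.card K) : H = K :=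
  SetLike.coe_injective (Set.eq_of_subset_of_ncard_le h
    (by rw [← Nat.card_coe_set_eq, ← Nat.card_coe_set_eq]; exact hc.ge) (Set.toFinite _))

include C in
theorem exists_moves {x y : X} (hxy : x ≠ y) : ∃ a ∈ C.A x, a • y ≠ y := by
  by_contra hc
  push Not at hc
  obtain ⟨a, ha, ha1, -⟩ := C.notsemi x y hxy
  refine ha1 (C.faithful a fun z => ?_)
  by_cases hz : z = x
  · rw [hz]; exact C.le_stab x a ha
  obtain ⟨g, hgx, hgz⟩ := C.tt x y x z hxy (Ne.symm hz)
  have h1 : g⁻¹ * a * g ∈ C.A x := by rwa [← C.mem_smul_iff, hgx]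
  have h2 := hc _ h1
  rw [mul_smul, mul_smul, hgz, inv_smul_eq_iff, hgz] at h2
  exact h2

/-! ### Trivial intersection -/

theorem card_inf (x y z w : X) (hxy : x ≠ y) (hzw : z ≠ w) :
    Nat.card ↥(C.A x ⊓ C.A y) = Nat.card ↥(C.A z ⊓ C.A w) := by
  obtain ⟨g, hg1, hg2⟩ := C.tt x y z w hxy hzw
  refine (card_conj g _ _ fun a => ?_).symm
  rw [Subgroup.mem_inf, Subgroup.mem_inf, ← hg1, ← hg2, C.mem_smul_iff, C.mem_smul_iff]

theorem eq_of_mem {x y : X} {a : G} (hx : a ∈ C.A x) (hy : a ∈ C.A y) (ha : a ≠ 1) : x = y := by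
  by_contra hxy
  refine ha (C.faithful a fun z => ?_)
  let S : X → X → Set X := fun u v => {w | C.A u ⊓ C.A v ≤ C.A w}
  have key : ∀ u v w t : X, u ≠ v → w ≠ t → w ∈ S u v → t ∈ S u v → S w t = S u v := by
    intro u v w t huv hwt hw ht
    have : C.A u ⊓ C.A v = C.A w ⊓ C.A t :=
      eq_of_le_card (le_inf hw ht) (C.card_inf u v w t huv hwt)
    simp only [S, this]
  have hsl : ∀ u v w : X, ∀ n ∈ C.A u, w ∈ S u v → n • w ∈ S u v := by
    intro u v w n hn hw b hb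
    rw [C.mem_smul_iff, mul_assoc, C.comm u b n hb.1 hn, inv_mul_cancel_left]
    exact hw hb
  by_cases hz : z ∈ S x y
  · exact C.le_stab z a (hz ⟨hx, hy⟩)
  by_contra hm
  have hzx : z ≠ x := by rintro rfl; exact hz (inf_le_left (a := C.A z) (b := C.A y))
  have hzy : z ≠ y := by rintro rfl; exact hz (inf_le_right (a := C.A x) (b := C.A z))
  have hzS : ∀ u : X, z ∈ S u z := fun u => inf_le_right (a := C.A u) (b := C.A z)
  have h1 : S z (a • z) = S x z := key x z z (a • z) hzx.symm (Ne.symm hm) (hzS x)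
    (hsl x z z a hx (hzS x))
  have h2 : S z (a • z) = S y z := key y z z (a • z) hzy.symm (Ne.symm hm) (hzS y)
    (hsl y z z a hy (hzS y))
  have hy' : y ∈ S x z := by rw [← h1, h2]; exact inf_le_left (a := C.A y) (b := C.A z)
  have h3 : S x y = S x z := key x z x y hzx.symm hxy (inf_le_left (a := C.A x) (b := C.A z)) hy'
  exact hz (h3.symm ▸ hzS x)

theorem eq_one_of_mem {x y : X} {a : G} (hxy : x ≠ y) (hx : a ∈ C.A x) (hy : a ∈ C.A y) :
    a = 1 := by
  by_contra h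
  exact hxy (C.eq_of_mem hx hy h)

/-- The centraliser of a non-trivial element fixes its point. -/
theorem cent_fix {x : X} {a g : G} (ha : a ∈ C.A x) (ha1 : a ≠ 1) (h : g * a = a * g) :
    g • x = x := by
  have := C.conj g x a ha
  rw [h, mul_inv_cancel_right] at this
  exact C.eq_of_mem this ha ha1

theorem comm_fix {x y : X} {a b : G} (ha : a ∈ C.A x) (hb : b ∈ C.A y) (hay : a • y = y)
    (hbx : b • x = x) : a * b = b * a := by
  by_cases hxy : x = y
  · subst hxy; exact C.comm x a b ha hb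
  have h1 : a * b * a⁻¹ * b⁻¹ ∈ C.A y := mul_mem (C.conj_mem hay hb) (inv_mem hb)
  have h2 : a * b * a⁻¹ * b⁻¹ ∈ C.A x := by
    rw [show a * b * a⁻¹ * b⁻¹ = a * (b * a⁻¹ * b⁻¹) by group]
    exact mul_mem ha (C.conj_mem hbx (inv_mem ha))
  have := C.eq_one_of_mem hxy h2 h1
  rw [mul_inv_eq_one, mul_inv_eq_iff_eq_mul] at this
  exact this

/-! ### The subgroups `D` and `J` -/

/-- Elements of `A x` fixing `y`. -/
def D (x y : X) : Subgroup G := C.A x ⊓ stabilizer G y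

theorem mem_D {x y : X} {a : G} : a ∈ C.D x y ↔ a ∈ C.A x ∧ a • y = y := Iff.rfl

theorem D_left {x y : X} {a : G} (h : a ∈ C.D x y) : a • x = x := C.le_stab x a h.1

theorem D_comm {x y : X} {a b : G} (ha : a ∈ C.D x y) (hb : b ∈ C.D y x) : a * b = b * a :=
  C.comm_fix ha.1 hb.1 ha.2 hb.2

theorem mem_D_smul (g : G) (x y : X) (a : G) :
    a ∈ C.D (g • x) (g • y) ↔ g⁻¹ * a * g ∈ C.D x y := by
  rw [mem_D, mem_D, C.mem_smul_iff, mul_smul, mul_smul, inv_smul_eq_iff]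

theorem card_D {x y z w : X} (hxy : x ≠ y) (hzw : z ≠ w) :
    Nat.card (C.D x y) = Nat.card (C.D z w) := by
  obtain ⟨g, hg1, hg2⟩ := C.tt x y z w hxy hzw
  exact (card_conj g _ _ fun a => by rw [← hg1, ← hg2, C.mem_D_smul]).symm

theorem D_eq_of_le {x y z w : X} (hxy : x ≠ y) (hzw : z ≠ w) (h : C.D x y ≤ C.D z w) :
    C.D x y = C.D z w :=
  eq_of_le_card h (C.card_D hxy hzw)

theorem exists_ne_one {x y : X} (hxy : x ≠ y) : ∃ a ∈ C.D x y, a ≠ 1 := by
  obtain ⟨a, ha, ha1, hay⟩ := C.notsemi x y hxy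
  exact ⟨a, ⟨ha, hay⟩, ha1⟩

/-- The group generated by `D x y` and `D y x`. -/
def J (x y : X) : Subgroup G where
  carrier := {g | ∃ a ∈ C.D x y, ∃ b ∈ C.D y x, g = a * b}
  one_mem' := ⟨1, one_mem _, 1, one_mem _, (one_mul 1).symm⟩
  mul_mem' := by
    rintro _ _ ⟨a, ha, b, hb, rfl⟩ ⟨a', ha', b', hb', rfl⟩
    refine ⟨a * a', mul_mem ha ha', b * b', mul_mem hb hb', ?_⟩
    rw [mul_assoc, ← mul_assoc b, ← C.D_comm ha' hb, mul_assoc a' b, ← mul_assoc a a']
  inv_mem' := by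
    rintro _ ⟨a, ha, b, hb, rfl⟩
    refine ⟨a⁻¹, inv_mem ha, b⁻¹, inv_mem hb, ?_⟩
    rw [mul_inv_rev, ← C.D_comm (inv_mem ha) (inv_mem hb)]

theorem mem_J {x y : X} {g : G} : g ∈ C.J x y ↔ ∃ a ∈ C.D x y, ∃ b ∈ C.D y x, g = a * b :=
  Iff.rfl

theorem D_le_J (x y : X) : C.D x y ≤ C.J x y :=
  fun a ha => ⟨a, ha, 1, one_mem _, (mul_one a).symm⟩

theorem D_le_J' (x y : X) : C.D y x ≤ C.J x y :=
  fun b hb => ⟨1, one_mem _, b, hb, (one_mul b).symm⟩

theorem J_le {x y : X} {H : Subgroup G} (h1 : C.D x y ≤ H) (h2 : C.D y x ≤ H) : C.J x y ≤ H := by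
  rintro _ ⟨a, ha, b, hb, rfl⟩
  exact mul_mem (h1 ha) (h2 hb)

theorem J_symm (x y : X) : C.J x y = C.J y x :=
  le_antisymm (C.J_le (C.D_le_J' y x) (C.D_le_J y x)) (C.J_le (C.D_le_J' x y) (C.D_le_J x y))

theorem J_left {x y : X} {g : G} (h : g ∈ C.J x y) : g • x = x := by
  obtain ⟨a, ha, b, hb, rfl⟩ := h
  rw [mul_smul, hb.2, C.D_left ha]

theorem J_right {x y : X} {g : G} (h : g ∈ C.J x y) : g • y = y :=
  C.J_left (C.J_symm x y ▸ h)

theorem J_comm {x y : X} {g h : G} (hg : g ∈ C.J x y) (hh : h ∈ C.J x y) : g * h = h * g := by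
  obtain ⟨a, ha, b, hb, rfl⟩ := hg
  obtain ⟨a', ha', b', hb', rfl⟩ := hh
  have hab : Commute a b := C.D_comm ha hb
  have hab' : Commute a b' := C.D_comm ha hb'
  have haa : Commute a a' := C.comm x a a' ha.1 ha'.1
  have hba : Commute b a' := (C.D_comm ha' hb).symm
  have hbb : Commute b b' := C.comm y b b' hb.1 hb'.1
  exact (haa.mul_right hab').mul_left (hba.mul_right hbb)

theorem mem_J_smul (g : G) (x y : X) (a : G) :
    a ∈ C.J (g • x) (g • y) ↔ g⁻¹ * a * g ∈ C.J x y := by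
  constructor
  · rintro ⟨u, hu, v, hv, rfl⟩
    exact ⟨_, (C.mem_D_smul g x y u).1 hu, _, (C.mem_D_smul g y x v).1 hv, by group⟩
  · rintro ⟨u, hu, v, hv, h⟩
    refine ⟨g * u * g⁻¹, (C.mem_D_smul g x y _).2 (by simpa [mul_assoc] using hu),
      g * v * g⁻¹, (C.mem_D_smul g y x _).2 (by simpa [mul_assoc] using hv), ?_⟩
    calc a = g * (g⁻¹ * a * g) * g⁻¹ := by group
      _ = _ := by rw [h]; group

theorem card_J {x y : X} (hxy : x ≠ y) :
    Nat.card (C.J x y) = Nat.card (C.D x y) * Nat.card (C.D y x) := by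
  rw [← Nat.card_prod]
  refine (Nat.card_congr (Equiv.ofBijective
    (fun q : C.D x y × C.D y x => (⟨q.1 * q.2, q.1, q.1.2, q.2, q.2.2, rfl⟩ : C.J x y))
    ⟨fun q r h => ?_, fun g => ?_⟩)).symm
  · have h' : (q.1 : G) * q.2 = r.1 * r.2 := congrArg Subtype.val h
    have h'' : ((r.1 : G))⁻¹ * q.1 = (r.2 : G) * (q.2 : G)⁻¹ := by
      rw [inv_mul_eq_iff_eq_mul, ← mul_assoc, ← h', mul_inv_cancel_right]
    have h1 := C.eq_one_of_mem hxy (mul_mem (inv_mem r.1.2.1) q.1.2.1)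
      (h''.symm ▸ mul_mem r.2.2.1 (inv_mem q.2.2.1))
    have h2 : (r.1 : G) = q.1 := inv_mul_eq_one.1 h1
    rw [← h2] at h'
    exact Prod.ext (Subtype.ext h2.symm) (Subtype.ext (mul_left_cancel h'))
  · obtain ⟨a, ha, b, hb, e⟩ := g.2
    exact ⟨(⟨a, ha⟩, ⟨b, hb⟩), Subtype.ext e.symm⟩

theorem card_J_eq {x y z w : X} (hxy : x ≠ y) (hzw : z ≠ w) :
    Nat.card (C.J x y) = Nat.card (C.J z w) := by
  rw [C.card_J hxy, C.card_J hzw, C.card_D hxy hzw, C.card_D hxy.symm hzw.symm]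

theorem J_eq_of_le {x y z w : X} (hxy : x ≠ y) (hzw : z ≠ w) (h : C.J x y ≤ C.J z w) :
    C.J x y = C.J z w :=
  eq_of_le_card h (C.card_J_eq hxy hzw)

/-- A point whose group meets `J x y` is fixed by `J x y`. -/
theorem fix_of_mem {x y z : X} {c g : G} (hc : c ∈ C.J x y) (hcz : c ∈ C.A z) (hc1 : c ≠ 1)
    (hg : g ∈ C.J x y) : g • z = z :=
  C.cent_fix hcz hc1 (C.J_comm hg hc)

theorem J_collapse {x y z w : X} (hxy : x ≠ y) (hzw : z ≠ w) (hxz : x ≠ z)
    (h : C.J x y = C.J z w) : C.J x z = C.J x y := by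
  have h1 : C.D x y = C.D x z := C.D_eq_of_le hxy hxz fun a ha =>
    ⟨ha.1, C.J_left (h ▸ C.D_le_J x y ha)⟩
  have h2 : C.D z w = C.D z x := C.D_eq_of_le hzw hxz.symm fun a ha =>
    ⟨ha.1, C.J_left (h.symm ▸ C.D_le_J z w ha)⟩
  refine C.J_eq_of_le hxz hxy (C.J_le ?_ ?_)
  · exact h1 ▸ C.D_le_J x y
  · rw [← h2, h]
    exact C.D_le_J z w

theorem J_collapse_right {x z w : X} (hxz : x ≠ z) (hwx : w ≠ x) (hwz : w ≠ z)
    (h : C.J x w = C.J x z) : C.J w z = C.J x z := by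
  rw [C.J_symm w z, C.J_collapse hxz.symm hwx hwz.symm (by rw [C.J_symm z x, ← h, C.J_symm]),
    C.J_symm]

/-! ### Lines -/

/-- The line through two points. -/
def line (x y : X) : Set X := {z | z = x ∨ C.J x z = C.J x y}

theorem left_mem (x y : X) : x ∈ C.line x y := Or.inl rfl

theorem right_mem (x y : X) : y ∈ C.line x y := Or.inr rfl

theorem line_eq_left {x y z : X} (hz : z ∈ C.line x y) (hzx : z ≠ x) :
    C.line x z = C.line x y := by
  simp only [line, (hz.resolve_left hzx)]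

theorem line_symm {x y : X} (hxy : x ≠ y) : C.line x y = C.line y x := by
  have aux : ∀ u v : X, u ≠ v → C.line u v ⊆ C.line v u := by
    intro u v huv z hz
    by_cases hzv : z = v
    · exact Or.inl hzv
    rcases hz with rfl | hz
    · exact C.right_mem v z
    by_cases hzu : z = u
    · subst hzu; exact C.right_mem v z
    refine Or.inr (C.J_collapse huv.symm hzu (Ne.symm hzv) ?_)
    rw [C.J_symm v u, ← hz, C.J_symm]
  exact Set.Subset.antisymm (aux x y hxy) (aux y x hxy.symm)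

theorem line_eq {x y a b : X} (hxy : x ≠ y) (ha : a ∈ C.line x y) (hb : b ∈ C.line x y)
    (hab : a ≠ b) : C.line a b = C.line x y := by
  by_cases hax : a = x
  · subst hax; exact C.line_eq_left hb hab.symm
  have h1 : C.line a x = C.line x y := by
    rw [C.line_symm hax, C.line_eq_left ha hax]
  rw [C.line_eq_left (h1.symm ▸ hb) hab.symm, h1]

theorem smul_line (g : G) (x y : X) {z : X} (hz : z ∈ C.line x y) :
    g • z ∈ C.line (g • x) (g • y) := by
  rcases hz with rfl | hz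
  · exact C.left_mem _ _
  · refine Or.inr (SetLike.ext fun a => ?_)
    rw [C.mem_J_smul, C.mem_J_smul, hz]

theorem smul_line_iff (g : G) (x y z : X) :
    g • z ∈ C.line (g • x) (g • y) ↔ z ∈ C.line x y := by
  refine ⟨fun h => ?_, C.smul_line g x y⟩
  have := C.smul_line g⁻¹ _ _ h
  rwa [inv_smul_smul, inv_smul_smul, inv_smul_smul] at this

theorem J_fix_line {x y z : X} {g : G} (hg : g ∈ C.J x y) (hz : z ∈ C.line x y) : g • z = z := by
  rcases hz with rfl | hz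
  · exact C.J_left hg
  · exact C.J_right (hz.symm ▸ hg)

/-! ### The orbits of `A x` lie in lines -/

theorem D_orbit {x y : X} {n : G} (hn : n ∈ C.A x) : C.D x (n • y) = C.D x y := by
  ext a
  rw [mem_D, mem_D]
  refine and_congr_right fun ha => ?_
  rw [← mul_smul, C.comm x a n ha hn, mul_smul, smul_left_cancel_iff]

theorem mem_line_of_fix {x y : X} (hxy : x ≠ y) {n : G} (hn : n ∈ C.A x)
    (hfix : ∀ c ∈ C.D y x, c • n • y = n • y) : n • y ∈ C.line x y := by
  have hny : n⁻¹ • y ≠ x := fun e => hxy (by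
    have := congrArg (n • ·) e; simp only [smul_inv_smul, C.le_stab x n hn] at this; exact this.symm)
  have h1 : C.J x (n⁻¹ • y) = C.J x y := by
    refine C.J_eq_of_le hny.symm hxy (C.J_le ?_ fun g hg => ?_)
    · rw [C.D_orbit (inv_mem hn)]; exact C.D_le_J x y
    · have hx' : n⁻¹ • x = x := C.le_stab x _ (inv_mem hn)
      have hc : n * g * n⁻¹ ∈ C.D y x := by
        have := (C.mem_D_smul n⁻¹ y x g).1 (by rw [hx']; exact hg)
        simpa using this
      set c := n * g * n⁻¹ with hcdef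
      have he : n⁻¹ * c * n * c⁻¹ ∈ C.D x y := by
        refine C.mem_D.2 ⟨?_, ?_⟩
        · rw [show n⁻¹ * c * n * c⁻¹ = n⁻¹ * (c * n * c⁻¹) by group]
          exact mul_mem (inv_mem hn) (C.conj_mem hc.2 hn)
        · rw [mul_smul, mul_smul, mul_smul,
            C.D_left (inv_mem hc), hfix c hc, inv_smul_smul]
      exact ⟨_, he, c, hc, by rw [hcdef]; group⟩
  have h2 : n⁻¹ • y ∈ C.line x y := Or.inr h1
  have h3 : y ∈ C.line x (n • y) := by
    have := C.smul_line n x y h2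
    rwa [smul_inv_smul, C.le_stab x n hn] at this
  rw [C.line_eq_left h3 hxy.symm]
  exact C.right_mem x _

theorem mem_line_of_fix_one {x y : X} (hxy : x ≠ y) {n c : G} (hn : n ∈ C.A x)
    (hc : c ∈ C.D y x) (hc1 : c ≠ 1) (hcz : c • n • y = n • y) : n • y ∈ C.line x y := by
  have he : n⁻¹ * c * n * c⁻¹ ∈ C.D x y := by
    refine C.mem_D.2 ⟨?_, ?_⟩
    · rw [show n⁻¹ * c * n * c⁻¹ = n⁻¹ * (c * n * c⁻¹) by group]
      exact mul_mem (inv_mem hn) (C.conj_mem hc.2 hn)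
    · rw [mul_smul, mul_smul, mul_smul, C.D_left (inv_mem hc), hcz,
        inv_smul_smul]
  have h1 : n⁻¹ * c * n ∈ C.J x y := ⟨_, he, c, hc, by group⟩
  have h2 : n⁻¹ * c * n ∈ C.A (n⁻¹ • y) := by
    have := C.conj n⁻¹ y c hc.1
    rwa [inv_inv] at this
  have h3 : n⁻¹ * c * n ≠ 1 := fun e => hc1 (by
    calc c = n * (n⁻¹ * c * n) * n⁻¹ := by group
      _ = 1 := by rw [e]; group)
  have h4 : ∀ g ∈ C.J x y, g • n⁻¹ • y = n⁻¹ • y := fun g hg => C.fix_of_mem h1 h2 h3 hg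
  have h5 : n⁻¹ • y ∈ C.line x y :=
    C.mem_line_of_fix hxy (inv_mem hn) fun g hg => h4 g (C.D_le_J' x y hg)
  have h6 : y ∈ C.line x (n • y) := by
    have := C.smul_line n x y h5
    rwa [smul_inv_smul, C.le_stab x n hn] at this
  rw [C.line_eq_left h6 hxy.symm]
  exact C.right_mem x _

open Pointwise in
theorem orbit_line {x y : X} {n : G} (hn : n ∈ C.A x) (hxy : x ≠ y) : n • y ∈ C.line x y := by
  by_contra hno
  set ℓ := C.line x y with hℓ
  let W : Set (Set X) := orbit (C.A x) ℓ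
  have hBW : ∀ c ∈ C.D y x, ∀ s ∈ W, c • s ∈ W := by
    rintro c hc _ ⟨m, rfl⟩
    refine ⟨⟨c * m * c⁻¹, C.conj_mem hc.2 m.2⟩, ?_⟩
    show (c * m * c⁻¹) • ℓ = c • (m : G) • ℓ
    have hcl : c⁻¹ • ℓ = ℓ := by
      have hfix : ∀ z ∈ ℓ, c⁻¹ • z = z := fun z hz =>
        C.J_fix_line (C.D_le_J' x y (inv_mem hc)) hz
      show (c⁻¹ • ·) '' ℓ = ℓ
      rw [Set.EqOn.image_eq (fun z hz => hfix z hz), Set.image_id']
    rw [mul_smul, mul_smul, hcl]
  let A' : SubMulAction (C.D y x) (Set X) :=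
    { carrier := W
      smul_mem' := fun c s hs => hBW c.1 c.2 s hs }
  have hfixed : ∀ c : C.D y x, c • (⟨ℓ, mem_orbit_self ℓ⟩ : A') = ⟨ℓ, mem_orbit_self ℓ⟩ := by
    intro c
    refine Subtype.ext ?_
    show ((c : G) • ·) '' ℓ = ℓ
    rw [Set.EqOn.image_eq (fun z hz => C.J_fix_line (C.D_le_J' x y c.2) hz), Set.image_id']
  have hAp : IsPGroup p (C.A x) := fun g => ⟨1, by
    rw [pow_one]; exact Subtype.ext (C.expo x g g.2)⟩
  have hBp : IsPGroup p (C.D y x) := fun g => ⟨1, by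
    rw [pow_one]; exact Subtype.ext (C.expo y g g.2.1)⟩
  have hmove : ∀ m ∈ C.A x, m • ℓ = ℓ → m • y ∈ ℓ := fun m _ h =>
    h ▸ Set.smul_mem_smul_set (C.right_mem x y)
  have hdvd : p ∣ Nat.card A' := by
    obtain ⟨k, hk⟩ := hAp.card_orbit ℓ
    have e : Nat.card A' = p ^ k := hk
    rw [e]
    refine dvd_pow_self p fun h0 => ?_
    rw [h0, pow_zero, Nat.card_eq_one_iff_unique] at hk
    obtain ⟨hs, -⟩ := hk
    have := hs.elim ⟨(n • ℓ : Set X), ⟨n, hn⟩, rfl⟩ ⟨ℓ, mem_orbit_self ℓ⟩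
    exact hno (hmove n hn (congrArg Subtype.val this))
  obtain ⟨⟨_, m, rfl⟩, hb, hne⟩ :=
    hBp.exists_fixed_point_of_prime_dvd_card_of_fixed_point A' hdvd
      (a := ⟨ℓ, mem_orbit_self ℓ⟩) hfixed
  obtain ⟨m, hm⟩ := m
  set z := m • y with hz
  have hzℓ : z ∉ ℓ := by
    intro h
    refine hne (Subtype.ext ?_)
    show ℓ = m • ℓ
    ext w
    rw [Set.mem_smul_set_iff_inv_smul_mem, hℓ]
    conv_lhs => rw [← C.line_eq_left h (fun e => hxy (by
      have := congrArg (m⁻¹ • ·) e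
      simp only [hz, inv_smul_smul, C.le_stab x _ (inv_mem hm)] at this
      exact this.symm))]
    rw [← C.smul_line_iff m⁻¹ x z w, C.le_stab x _ (inv_mem hm), hz, inv_smul_smul]
  have hzx : z ≠ x := fun e => hzℓ (e ▸ C.left_mem x y)
  have hzy : z ≠ y := fun e => hzℓ (e ▸ C.right_mem x y)
  have hline : ∀ c ∈ C.D y x, c • z ∈ C.line x z := by
    intro c hc
    have h1 : c • (m • ℓ) = m • ℓ := congrArg Subtype.val (hb ⟨c, hc⟩)
    have h2 : c • z ∈ m • ℓ := h1 ▸ Set.smul_mem_smul_set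
      (Set.smul_mem_smul_set (C.right_mem x y))
    rw [Set.mem_smul_set_iff_inv_smul_mem] at h2
    have h3 := C.smul_line m x y h2
    rwa [smul_inv_smul, C.le_stab x m hm] at h3
  have hfree : ∀ c ∈ C.D y x, c • z = z → c = 1 := fun c hc h => by
    by_contra h1
    exact hzℓ (C.mem_line_of_fix_one hxy hm hc h1 h)
  obtain ⟨c, hc, hc1⟩ := C.exists_ne_one hxy.symm
  have hcz : c • z ≠ z := fun h => hc1 (hfree c hc h)
  have hzline : C.line z (c • z) = C.line x z :=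
    C.line_eq hzx.symm (C.right_mem x z) (hline c hc) (Ne.symm hcz)
  -- elements of `A y` fixing `z` fix `x`
  have hEx : ∀ e ∈ C.D y z, e • x = x := by
    intro e he
    by_contra hex
    have hce : e • c • z = c • z := by
      rw [← mul_smul, C.comm y e c he.1 hc.1, mul_smul, he.2]
    have hex' : e • x ∈ C.line x z := by
      have h := C.smul_line e z (c • z) (hzline.symm ▸ C.left_mem x z)
      rwa [he.2, hce, hzline] at h
    obtain ⟨d, hd, hd1⟩ := C.exists_ne_one hxy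
    have hdz : d • z = z := ((C.D_orbit hm).symm ▸ hd : d ∈ C.D x (m • y)).2
    have hexz : e • x ≠ z := fun h => hzx (smul_left_cancel e (he.2.trans h.symm))
    set f := d * e * d⁻¹ * e⁻¹ with hf
    have hfy : f ∈ C.A y := mul_mem (C.conj_mem hd.2 he.1) (inv_mem he.1)
    have hJ : C.J (e • x) z = C.J x z := by
      rcases hex' with h | h
      · exact absurd h hex
      · exact C.J_collapse_right hzx.symm hex hexz h
    have hfJ : f ∈ C.J x z := by
      rw [hf, show d * e * d⁻¹ * e⁻¹ = d * (e * d⁻¹ * e⁻¹) by group]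
      refine mul_mem (C.D_le_J x z ⟨hd.1, hdz⟩) (hJ ▸ C.D_le_J (e • x) z ?_)
      have h := (C.mem_D_smul e x z (e * d⁻¹ * e⁻¹)).2
        (by simpa [mul_assoc] using inv_mem (C.mem_D.2 ⟨hd.1, hdz⟩))
      rwa [he.2] at h
    have hf1 : f = 1 := by
      have h1 : f ∈ C.D y x := ⟨hfy, C.J_left hfJ⟩
      exact hfree f h1 (C.J_right hfJ)
    rw [hf, mul_inv_eq_one, mul_inv_eq_iff_eq_mul] at hf1
    exact hex (C.cent_fix hd.1 hd1 hf1.symm)
  have hEB : C.D y z = C.D y x := C.D_eq_of_le hzy.symm hxy.symm fun e he => ⟨he.1, hEx e he⟩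
  have : c • z = z := (hEB.symm ▸ hc : c ∈ C.D y z).2
  exact hcz this

end Conf

end Cfsg.Agent.CG26.ONan
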