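import Cfsg.Agent.CG26.ONan.Spread

/-!
# The hyperplanes
-/

set_option autoImplicit false
set_option linter.unusedSectionVars false

namespace Cfsg.Agent.CG26.ONan

open MulAction

namespace Conf

variable {G X : Type*} [Group G] [MulAction G X] [Finite G] [Finite X] {p : ℕ}
  [Fact p.Prime] (C : Conf G X p)

theorem two_le_orbit {x y : X} (hxy : x ≠ y) : 2 ≤ (orbit (C.A x) y).ncard := by
  obtain ⟨a, ha, hay⟩ := C.exists_moves hxy
  refine le_of_eq_of_le (Set.ncard_pair hay).symm (Set.ncard_le_ncard ?_ (Set.toFinite _))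
  rintro z (rfl | rfl)
  exacts [⟨⟨a, ha⟩, rfl⟩, mem_orbit_self _]

theorem exists_nd_opp {y w : X} (hyw : y ≠ w) : ∃ t, C.Nd t y w := by
  obtain ⟨t, ht⟩ := C.exists_nd hyw
  exact ⟨t, ht.swap.rot⟩

theorem ncard_line {x y : X} (hxy : x ≠ y) :
    (C.line x y).ncard = (orbit (C.A x) y).ncard + 1 := by
  obtain ⟨t, ht⟩ := C.exists_nd_opp hxy
  rw [(C.spread ht).1, C.orbit_A_eq ht.1 hxy]

theorem trans_line {x y z : X} (hxy : x ≠ y) (hz : z ∈ C.line x y) (hzx : z ≠ x) :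
    ∃ n ∈ C.A x, n • y = z := by
  have h1 : orbit (C.A x) y = C.line x y \ {x} := by
    refine Set.eq_of_subset_of_ncard_le ?_ ?_ (Set.toFinite _)
    · rintro _ ⟨n, rfl⟩
      exact ⟨C.orbit_line n.2 hxy, fun e => hxy (smul_left_cancel (n : G)
        ((C.le_stab x n n.2).trans (Set.mem_singleton_iff.1 e).symm))⟩
    · rw [Set.ncard_sdiff_singleton_of_mem (C.left_mem x y), C.ncard_line hxy]
      omega
  obtain ⟨n, hn⟩ : z ∈ orbit (C.A x) y := by rw [h1]; exact ⟨hz, hzx⟩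
  exact ⟨n, n.2, hn⟩

theorem exists_third {x y : X} (hxy : x ≠ y) : ∃ z ∈ C.line x y, z ≠ x ∧ z ≠ y := by
  by_contra hc
  push Not at hc
  have h1 : C.line x y ⊆ {x, y} := fun z hz => by
    by_cases h : z = x
    · exact Or.inl h
    · exact Or.inr (hc z hz h)
  have h2 := Set.ncard_le_ncard h1 (Set.toFinite _)
  rw [Set.ncard_pair hxy, C.ncard_line hxy] at h2
  have := C.two_le_orbit hxy
  omega

theorem move_two {w y z P Q : X} (h : C.Nd w y z) (hP : P ∈ C.line w y) (hPw : P ≠ w)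
    (hQ : Q ∈ C.line w z) (hQw : Q ≠ w) : ∃ m ∈ C.A w, m • y = P ∧ m • z = Q := by
  obtain ⟨n₁, hn₁, e₁⟩ := C.trans_line h.1 hP hPw
  obtain ⟨n₂, hn₂, e₂⟩ := C.trans_line h.2.1 hQ hQw
  have hS := (C.spread h).2.1
  obtain ⟨a₁, ha₁, a₂, ha₂, ea⟩ :=
    ((C.card_sup (x := w) _ _ inf_le_left inf_le_left).1 n₁).1 (hS.symm ▸ hn₁)
  obtain ⟨b₁, hb₁, b₂, hb₂, eb⟩ :=
    ((C.card_sup (x := w) _ _ inf_le_left inf_le_left).1 n₂).1 (hS.symm ▸ hn₂)
  refine ⟨a₂ * b₁, mul_mem ha₂.1 hb₁.1, ?_, ?_⟩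
  · rw [mul_smul, hb₁.2, ← e₁, ea, C.comm w a₁ a₂ ha₁.1 ha₂.1, mul_smul, ha₁.2]
  · rw [C.comm w a₂ b₁ ha₂.1 hb₁.1, mul_smul, ha₂.2, ← e₂, eb, mul_smul, hb₂.2]

theorem mem_line_of_D_eq {x y z : X} (hxy : x ≠ y) (hxz : x ≠ z) (h : C.D x y = C.D x z) :
    z ∈ C.line x y := by
  by_contra hz
  have hyz : y ≠ z := fun e => hz (e ▸ C.right_mem x y)
  have hx : x ∉ C.line y z := fun hx =>
    hz ((C.line_eq hyz hx (C.left_mem y z) hxy).symm ▸ C.right_mem y z)
  obtain ⟨n, hn, hny⟩ := C.exists_moves hxy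
  obtain ⟨w, hw, hnw⟩ : ∃ w, C.Nd x y w ∧ n • w ≠ w := by
    by_contra hc
    push Not at hc
    obtain ⟨w, hw⟩ := C.exists_nd hxy
    obtain ⟨w', hw', hwy, hww⟩ := C.exists_third hw.ne
    have h1 := C.line_eq hw.ne (C.right_mem y w) hw' (Ne.symm hww)
    exact hny (C.fix_sub hn (hc w hw) (hc w' (hw.of_line hw' hwy)) (Ne.symm hww)
      (h1.symm ▸ C.left_mem y w))
  have hzw : C.Nd x z w := ⟨hxz, hw.2.1, h ▸ hw.2.2⟩
  obtain ⟨P, hP, hnP⟩ := (C.spread hw).2.2 n hn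
  obtain ⟨Q, hQ, hnQ⟩ := (C.spread hzw).2.2 n hn
  have hnz : n • z ≠ z := fun e => hny (h.symm.le (C.mem_D.2 ⟨hn, e⟩)).2
  have hPw : P ≠ w := fun e => hnw (e ▸ hnP)
  have hQw : Q ≠ w := fun e => hnw (e ▸ hnQ)
  have hwyz : C.Nd w y z := by
    have h1 : C.Nd y w z := ⟨hw.ne, hyz, fun e => hw.rot.2.2
      ((C.D_symm hxy hxz hyz h).trans e.symm)⟩
    exact h1.rot
  rw [C.line_symm hw.ne] at hP
  rw [C.line_symm hzw.ne] at hQ
  obtain ⟨m, hm, hmy, hmz⟩ := C.move_two hwyz hP hPw hQ hQw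
  obtain ⟨R, hR, hmR⟩ := (C.spread hwyz).2.2 m hm
  have hPQ : P ≠ Q := fun e => hwyz.not_mem (by
    rw [← C.line_eq_left hP hPw, e, C.line_eq_left hQ hQw]
    exact C.right_mem w z)
  have hR' : R ∈ C.line P Q := by
    have := C.smul_line m y z hR
    rwa [hmy, hmz, hmR] at this
  have hnR : n • R = R := C.fix_sub hn hnP hnQ hPQ hR'
  have hRx : R ≠ x := fun e => hx (e ▸ hR)
  have hD : C.D x R = C.D x y := by
    by_cases hRy : R = y
    · rw [hRy]
    · exact (C.D_symm hxy.symm (Ne.symm hRy) hRx.symm (by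
        rw [C.D_symm hxy hxz hyz h, C.D_line hyz hR hRy])).symm
  exact hny (hD.le (C.mem_D.2 ⟨hn, hnR⟩)).2

theorem meet {x u v : X} {a : G} (ha : a ∈ C.A x) (huv : u ≠ v) :
    ∃ h ∈ C.line u v, a • h = h := by
  by_cases hx : x ∈ C.line u v
  · exact ⟨x, hx, C.le_stab x a ha⟩
  have hxu : x ≠ u := fun e => hx (e ▸ C.left_mem u v)
  have hxv : x ≠ v := fun e => hx (e ▸ C.right_mem u v)
  refine (C.spread ⟨hxu, hxv, fun e => hx ?_⟩).2.2 a ha
  have h1 := C.mem_line_of_D_eq hxu hxv e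
  exact (C.line_eq hxu (C.right_mem x u) h1 huv).symm ▸ C.left_mem x u

/-- The fixed points of an element. -/
def Fx (_C : Conf G X p) (a : G) : Set X := {z | a • z = z}

theorem mem_Fx {a : G} {z : X} : z ∈ C.Fx a ↔ a • z = z := Iff.rfl

theorem fix_all {x y u : X} {a g : G} (ha : a ∈ C.A x) (hg : g ∈ C.A y)
    (hsub : ∀ z : X, a • z = z → g • z = z) (hu : a • u ≠ u) (hgu : g • u = u) : g = 1 := by
  refine C.faithful g fun z => ?_
  by_cases hz : z = u
  · rw [hz, hgu]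
  obtain ⟨h, hh, hah⟩ := C.meet ha (Ne.symm hz)
  have hhu : h ≠ u := fun e => hu (e ▸ hah)
  refine C.fix_sub hg hgu (hsub h hah) hhu.symm ?_
  rw [C.line_eq_left hh hhu]
  exact C.right_mem u z

theorem exists_moved {x : X} {a : G} (ha1 : a ≠ 1) (_ha : a ∈ C.A x) : ∃ u : X, a • u ≠ u := by
  by_contra hc
  push Not at hc
  exact ha1 (C.faithful a hc)

theorem Fx_eq {x y : X} {a g : G} (ha : a ∈ C.A x) (hg : g ∈ C.A y) (hg1 : g ≠ 1)
    (hsub : ∀ z : X, a • z = z → g • z = z) : C.Fx g = C.Fx a := by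
  ext z
  exact ⟨fun hz => by_contra fun h => hg1 (C.fix_all ha hg hsub h hz), hsub z⟩

/-- The number `q`, line size minus one. -/
noncomputable def q (_C : Conf G X p) (x y : X) : ℕ := (orbit (_C.A x) y).ncard

theorem ncard_Fx {x y : X} {a : G} (hxy : x ≠ y) {c : X} (hac : a ∈ C.A c) (ha1 : a ≠ 1) :
    Nat.card X = C.q x y * (C.Fx a).ncard + 1 := by
  classical
  have := Fintype.ofFinite X
  obtain ⟨u, hu⟩ := C.exists_moved ha1 hac
  have hch : ∀ z : X, z ≠ u → ∃ h ∈ C.line u z, a • h = h := fun z hz => C.meet hac (Ne.symm hz)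
  choose! η hη hηa using hch
  let O : Finset X := Finset.univ.filter fun z => z ≠ u
  have hO : O.card + 1 = Nat.card X := by
    have e : (O : Set X) = ({u} : Set X)ᶜ := by ext z; simp [O]
    have h1 := Set.ncard_add_ncard_compl ({u} : Set X) (Set.toFinite _) (Set.toFinite _)
    rw [Set.ncard_singleton, ← e, Set.ncard_coe_finset] at h1
    omega
  have hmaps : Set.MapsTo η O (C.Fx a).toFinset := fun z hz => by
    simp only [O, Finset.coe_filter, Finset.mem_univ, true_and, Set.mem_setOf_eq] at hz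
    simpa [mem_Fx] using hηa z hz
  have hfib : ∀ h ∈ (C.Fx a).toFinset, (O.filter fun z => η z = h).card = C.q x y := by
    intro h hh
    rw [Set.mem_toFinset, mem_Fx] at hh
    have hhu : h ≠ u := fun e => hu (e ▸ hh)
    have e : ((O.filter fun z => η z = h : Finset X) : Set X) = C.line u h \ {u} := by
      ext z
      simp only [O, Finset.coe_filter, Finset.mem_filter, Finset.mem_univ, true_and,
        Set.mem_setOf_eq, Set.mem_diff, Set.mem_singleton_iff]
      constructor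
      · rintro ⟨hz, rfl⟩
        refine ⟨?_, hz⟩
        rw [C.line_eq_left (hη z hz) hhu]
        exact C.right_mem u z
      · rintro ⟨hz, hzu⟩
        refine ⟨hzu, by_contra fun hne => hu ?_⟩
        have h1 := hη z hzu
        rw [C.line_eq_left hz hzu] at h1
        refine C.fix_sub hac (hηa z hzu) hh hne ?_
        rw [C.line_eq (Ne.symm hhu) h1 (C.right_mem u h) hne]
        exact C.left_mem u h
    rw [← Set.ncard_coe_finset, e, Set.ncard_sdiff_singleton_of_mem (C.left_mem u h),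
      C.ncard_line hhu.symm, C.orbit_A_eq hhu.symm hxy, Nat.add_sub_cancel]
    rfl
  rw [← hO, Finset.card_eq_sum_card_fiberwise hmaps, Finset.sum_congr rfl hfib, Finset.sum_const,
    smul_eq_mul, ← Set.ncard_eq_toFinset_card', mul_comm]

theorem q_eq {x y u v : X} (hxy : x ≠ y) (huv : u ≠ v) : C.q x y = C.q u v :=
  C.orbit_A_eq hxy huv

theorem two_le_Fx {x : X} {a : G} (hxy : ∃ y, x ≠ y) (ha : a ∈ C.A x) :
    ∃ y ∈ C.Fx a, y ≠ x := by
  obtain ⟨y, hxy⟩ := hxy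
  obtain ⟨w, hw⟩ := C.exists_nd hxy
  obtain ⟨h, hh, hah⟩ := C.meet ha hw.ne
  exact ⟨h, hah, fun e => hw.not_mem' (e ▸ hh)⟩

/-- Elements of `A y` with prescribed fixed points. -/
def K (y : X) (F : Set X) : Subgroup G := C.A y ⊓ fixingSubgroup G F

theorem mem_K {y : X} {F : Set X} {g : G} :
    g ∈ C.K y F ↔ g ∈ C.A y ∧ ∀ z ∈ F, g • z = z := by
  simp [K, mem_fixingSubgroup_iff]

theorem card_K_le {x y : X} {a : G} (ha : a ∈ C.A x) (ha1 : a ≠ 1) (hy : a • y = y) :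
    ∃ u, y ≠ u ∧ Nat.card (C.K y (C.Fx a)) ≤ (orbit (C.A y) u).ncard := by
  obtain ⟨u, hu⟩ := C.exists_moved ha1 ha
  refine ⟨u, fun e => hu (e ▸ hy), ?_⟩
  rw [← Nat.card_coe_set_eq]
  refine Nat.card_le_card_of_injective
    (fun g => (⟨(g : G) • u, ⟨⟨g, g.2.1⟩, rfl⟩⟩ : orbit (C.A y) u)) fun g g' e => ?_
  have e' : (g : G) • u = (g' : G) • u := congrArg Subtype.val e
  have h1 : (g' : G)⁻¹ * g ∈ C.K y (C.Fx a) := mul_mem (inv_mem g'.2) g.2
  have h2 := C.fix_all ha h1.1 (fun z hz => ((C.mem_K).1 h1).2 z hz) hu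
    (by rw [mul_smul, e', inv_smul_smul])
  exact Subtype.ext (inv_mul_eq_one.1 h2).symm

theorem le_card_K {x y : X} {a : G} (ha : a ∈ C.A x) (ha1 : a ≠ 1) (hy : a • y = y)
    (hxy : x ≠ y) : C.q y x ≤ Nat.card (C.K y (C.Fx a)) := by
  have hch : ∀ z : orbit (C.A y) x, ∃ b ∈ C.A y, b • x = (z : X) := fun z => by
    obtain ⟨b, hb⟩ := z.2
    exact ⟨b, b.2, hb⟩
  choose β hβ hβx using hch
  have hmem : ∀ b ∈ C.A y, a * b * a⁻¹ * b⁻¹ ∈ C.K y (C.Fx a) := by
    intro b hb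
    refine C.mem_K.2 ⟨mul_mem (C.conj_mem hy hb) (inv_mem hb), fun h hh => ?_⟩
    have h1 : a • b⁻¹ • h = b⁻¹ • h := by
      by_cases hhy : h = y
      · rw [hhy, C.le_stab y _ (inv_mem hb), hy]
      · exact C.fix_sub ha hy hh (Ne.symm hhy) (C.orbit_line (inv_mem hb) (Ne.symm hhy))
    have h2 : a⁻¹ • b⁻¹ • h = b⁻¹ • h := by rw [inv_smul_eq_iff, h1]
    rw [mul_smul, mul_smul, mul_smul, h2, smul_inv_smul, hh]
  rw [q, ← Nat.card_coe_set_eq]
  refine Nat.card_le_card_of_injective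
    (fun z => (⟨_, hmem (β z) (hβ z)⟩ : C.K y (C.Fx a))) fun z z' e => ?_
  have e' : a * β z * a⁻¹ * (β z)⁻¹ = a * β z' * a⁻¹ * (β z')⁻¹ := congrArg Subtype.val e
  set c := (β z')⁻¹ * β z with hc
  have h1 : a * c * a⁻¹ = c := by
    have h0 : (a * β z' * a⁻¹)⁻¹ * (a * β z * a⁻¹) = (β z')⁻¹ * β z := by
      have e'' : a * β z * a⁻¹ = a * β z' * a⁻¹ * (β z')⁻¹ * β z := by
        rw [← e', inv_mul_cancel_right]
      rw [e'']; group
    calc a * c * a⁻¹ = (a * β z' * a⁻¹)⁻¹ * (a * β z * a⁻¹) := by rw [hc]; group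
      _ = c := by rw [h0, hc]
  have h2 : c • x = x := C.cent_fix ha ha1 (mul_inv_eq_iff_eq_mul.1 h1).symm
  rw [hc, mul_smul, inv_smul_eq_iff, hβx, hβx] at h2
  exact Subtype.ext h2

theorem card_K {x y u v : X} {a : G} (ha : a ∈ C.A x) (ha1 : a ≠ 1) (hy : a • y = y)
    (huv : u ≠ v) : Nat.card (C.K y (C.Fx a)) = C.q u v := by
  have aux : ∀ x y : X, ∀ a ∈ C.A x, a ≠ 1 → a • y = y → x ≠ y →
      Nat.card (C.K y (C.Fx a)) = C.q u v := by
    intro x y a ha ha1 hy hxy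
    obtain ⟨w, hw, hle⟩ := C.card_K_le ha ha1 hy
    refine le_antisymm (hle.trans (le_of_eq (C.orbit_A_eq hw huv))) ?_
    rw [C.q_eq huv hxy.symm]
    exact C.le_card_K ha ha1 hy hxy
  by_cases hxy : x = y
  · subst hxy
    obtain ⟨w₀, hw₀⟩ : ∃ w₀, x ≠ w₀ := by
      by_cases h : x = u
      · exact ⟨v, h ▸ huv⟩
      · exact ⟨u, h⟩
    obtain ⟨w, hw, hwx⟩ := C.two_le_Fx (x := x) ⟨w₀, hw₀⟩ ha
    have h1 := aux x w a ha ha1 hw hwx.symm
    have h2 : 1 < Nat.card (C.K w (C.Fx a)) := by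
      rw [h1]; exact C.two_le_orbit huv
    obtain ⟨g, hg⟩ : ∃ g : C.K w (C.Fx a), g ≠ 1 := by
      by_contra hc
      push Not at hc
      have : Subsingleton (C.K w (C.Fx a)) := ⟨fun s t => by rw [hc s, hc t]⟩
      rw [Nat.card_of_subsingleton 1] at h2
      exact lt_irrefl _ h2
    have hg1 : (g : G) ≠ 1 := fun e => hg (Subtype.ext e)
    have hF : C.Fx (g : G) = C.Fx a :=
      C.Fx_eq ha g.2.1 hg1 fun z hz => (C.mem_K.1 g.2).2 z hz
    have hgx : (g : G) • x = x := (C.mem_K.1 g.2).2 x (C.le_stab x a ha)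
    rw [← hF]
    exact aux w x g g.2.1 hg1 hgx hwx
  · exact aux x y a ha ha1 hy hxy

/-- The hyperplanes. -/
def HS : Set (Set X) := {F | ∃ x, ∃ a ∈ C.A x, a ≠ 1 ∧ F = C.Fx a}

/-- `r * (q - 1) = Q - 1` where `r` is the size of a hyperplane. -/
theorem count_r {x y : X} {a : G} {c : X} (hxy : x ≠ y) (hac : a ∈ C.A c) (ha1 : a ≠ 1) :
    (C.Fx a).ncard * (C.q x y - 1) = Nat.card (C.A x) - 1 := by
  classical
  have := Fintype.ofFinite G
  have := Fintype.ofFinite X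
  set r := (C.Fx a).ncard with hr
  set qq := C.q x y with hq
  set d := Nat.card (C.D x y) with hd
  let As : Finset G := Finset.univ.filter fun g => g ∈ C.A x ∧ g ≠ 1
  let Zs : Finset X := Finset.univ.filter fun z => z ≠ x
  have hAs : As.card + 1 = Nat.card (C.A x) := by
    have e : (As : Set G) = (C.A x : Set G) \ {1} := by ext g; simp [As]
    rw [← Set.ncard_coe_finset, e,
      Set.ncard_sdiff_singleton_add_one (C.A x).one_mem (Set.toFinite _), ← Nat.card_coe_set_eq]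
    rfl
  have hZs : Zs.card + 1 = Nat.card X := by
    have e : (Zs : Set X) = ({x} : Set X)ᶜ := by ext z; simp [Zs]
    have h1 := Set.ncard_add_ncard_compl ({x} : Set X) (Set.toFinite _) (Set.toFinite _)
    rw [Set.ncard_singleton, ← e, Set.ncard_coe_finset] at h1
    omega
  have hrow : ∀ g ∈ As, (Zs.filter fun z => g • z = z).card = r - 1 := by
    intro g hg
    simp only [As, Finset.mem_filter, Finset.mem_univ, true_and] at hg
    have e : ((Zs.filter fun z => g • z = z : Finset X) : Set X) = C.Fx g \ {x} := by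
      ext z; simp [Zs, mem_Fx, and_comm]
    have h1 := C.ncard_Fx hxy hg.1 hg.2
    have h2 := C.ncard_Fx hxy hac ha1
    rw [← Set.ncard_coe_finset, e,
      Set.ncard_sdiff_singleton_of_mem (show x ∈ C.Fx g from C.le_stab x g hg.1)]
    congr 1
    have h3 : qq * (C.Fx g).ncard = qq * r := by simp only [← hq, ← hr] at h1 h2; omega
    exact Nat.eq_of_mul_eq_mul_left (by have := C.two_le_orbit hxy; rw [hq, q]; omega) h3
  have hcol : ∀ z ∈ Zs, (As.filter fun g => g • z = z).card = d - 1 := by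
    intro z hz
    simp only [Zs, Finset.mem_filter, Finset.mem_univ, true_and] at hz
    have e : ((As.filter fun g => g • z = z : Finset G) : Set G) = (C.D x z : Set G) \ {1} := by
      ext g; simp [As, mem_D, and_assoc, and_comm, and_left_comm]
    rw [← Set.ncard_coe_finset, e, Set.ncard_sdiff_singleton_of_mem (C.D x z).one_mem,
      ← Nat.card_coe_set_eq, hd, C.card_D hxy (Ne.symm hz)]
    rfl
  have key : As.card * (r - 1) = Zs.card * (d - 1) := by
    rw [← smul_eq_mul, ← smul_eq_mul, ← Finset.sum_const, ← Finset.sum_const,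
      ← Finset.sum_congr rfl hrow, ← Finset.sum_congr rfl hcol]
    simp only [Finset.card_filter]
    exact Finset.sum_comm
  have hQ : qq * d = Nat.card (C.A x) := C.orbit_A
  have hv := C.ncard_Fx hxy hac ha1
  have hr1 : 1 ≤ r := (Set.ncard_pos (Set.toFinite _)).2 ⟨c, C.le_stab c a hac⟩
  have hd1 : 1 ≤ d := Nat.card_pos
  have hq2 : 2 ≤ qq := C.two_le_orbit hxy
  have hQ1 : 1 ≤ Nat.card (C.A x) := Nat.card_pos
  have eA : As.card = Nat.card (C.A x) - 1 := by omega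
  have eZ : Zs.card = qq * r := by simp only [← hq, ← hr] at hv; omega
  rw [eA, eZ] at key
  zify [hr1, hd1, hQ1, (show 1 ≤ qq by omega)] at key hQ ⊢
  linear_combination key + (r : ℤ) * hQ

theorem count_through {x y : X} {a : G} {c : X} (hxy : x ≠ y) (hac : a ∈ C.A c) (ha1 : a ≠ 1)
    (z : X) : {F | F ∈ C.HS ∧ z ∈ F}.ncard = (C.Fx a).ncard := by
  classical
  have := Fintype.ofFinite G
  obtain ⟨w, hzw⟩ : ∃ w, z ≠ w := ⟨if z = x then y else x, by
    split <;> rename_i h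
    · exact h ▸ hxy
    · exact h⟩
  let As : Finset G := Finset.univ.filter fun g => g ∈ C.A z ∧ g ≠ 1
  have hAs : As.card = Nat.card (C.A z) - 1 := by
    have e : (As : Set G) = (C.A z : Set G) \ {1} := by ext g; simp [As]
    rw [← Set.ncard_coe_finset, e, Set.ncard_sdiff_singleton_of_mem (C.A z).one_mem,
      ← Nat.card_coe_set_eq]
    rfl
  have himg : ((As.image fun g => C.Fx g : Finset (Set X)) : Set (Set X)) =
      {F | F ∈ C.HS ∧ z ∈ F} := by
    ext F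
    simp only [Finset.coe_image, Set.mem_image, Finset.mem_coe, Set.mem_setOf_eq]
    constructor
    · rintro ⟨g, hg, rfl⟩
      simp only [As, Finset.mem_filter] at hg
      exact ⟨⟨z, g, hg.2.1, hg.2.2, rfl⟩, C.le_stab z g hg.2.1⟩
    · rintro ⟨⟨x', a', ha', ha'1, rfl⟩, hz⟩
      have h2 : 1 < Nat.card (C.K z (C.Fx a')) := by
        rw [C.card_K ha' ha'1 hz hzw]; exact C.two_le_orbit hzw
      obtain ⟨g, hg⟩ : ∃ g : C.K z (C.Fx a'), g ≠ 1 := by
        by_contra hc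
        push Not at hc
        have : Subsingleton (C.K z (C.Fx a')) := ⟨fun s t => by rw [hc s, hc t]⟩
        rw [Nat.card_of_subsingleton 1] at h2
        exact lt_irrefl _ h2
      have hg1 : (g : G) ≠ 1 := fun e => hg (Subtype.ext e)
      exact ⟨g, Finset.mem_filter.2 ⟨Finset.mem_univ _, g.2.1, hg1⟩,
        C.Fx_eq ha' g.2.1 hg1 fun t ht => (C.mem_K.1 g.2).2 t ht⟩
  have hfib : ∀ F ∈ As.image (fun g => C.Fx g),
      (As.filter fun g => C.Fx g = F).card = C.q z w - 1 := by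
    intro F hF
    obtain ⟨g, hg, rfl⟩ := Finset.mem_image.1 hF
    simp only [As, Finset.mem_filter, Finset.mem_univ, true_and] at hg
    have e : ((As.filter fun t => C.Fx t = C.Fx g : Finset G) : Set G) =
        (C.K z (C.Fx g) : Set G) \ {1} := by
      ext t
      simp only [As, Finset.coe_filter, Finset.mem_filter, Finset.mem_univ, true_and,
        Set.mem_setOf_eq, Set.mem_diff, SetLike.mem_coe, Set.mem_singleton_iff, C.mem_K]
      constructor
      · rintro ⟨⟨ht, ht1⟩, e⟩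
        exact ⟨⟨ht, fun u hu => C.mem_Fx.1 (e.symm ▸ hu : u ∈ C.Fx t)⟩, ht1⟩
      · rintro ⟨⟨ht, hfix⟩, ht1⟩
        exact ⟨⟨ht, ht1⟩, C.Fx_eq hg.1 ht ht1 fun u hu => hfix u hu⟩
    rw [← Set.ncard_coe_finset, e, Set.ncard_sdiff_singleton_of_mem (C.K z _).one_mem,
      ← Nat.card_coe_set_eq, ← C.card_K hg.1 hg.2 (C.le_stab z g hg.1) hzw]
    rfl
  have h1 := Finset.card_eq_sum_card_image (fun g => C.Fx g) As
  rw [Finset.sum_congr rfl hfib, Finset.sum_const, smul_eq_mul, hAs,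
    ← Set.ncard_coe_finset, himg, ← C.count_r hzw hac ha1] at h1
  exact (Nat.eq_of_mul_eq_mul_right (by
    have h5 : 2 ≤ C.q z w := C.two_le_orbit hzw
    omega) h1).symm

theorem card_HS {x y : X} (hxy : x ≠ y) : C.HS.ncard = Nat.card X := by
  classical
  have := Fintype.ofFinite X
  obtain ⟨a, ha, ha1⟩ := C.exists_ne_one hxy
  have h1 : ∀ F ∈ C.HS.toFinset, (Finset.univ.filter fun z => z ∈ F).card = (C.Fx a).ncard := by
    intro F hF
    obtain ⟨x', a', ha', ha'1, rfl⟩ := Set.mem_toFinset.1 hF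
    have e1 := C.ncard_Fx hxy ha' ha'1
    have e2 := C.ncard_Fx hxy ha.1 ha1
    rw [← Set.ncard_coe_finset]
    simp only [Finset.coe_filter, Finset.mem_univ, true_and, Set.setOf_mem_eq]
    refine Nat.eq_of_mul_eq_mul_left (show 0 < C.q x y from ?_) (by omega)
    have h5 : 2 ≤ C.q x y := C.two_le_orbit hxy
    omega
  have h2 : ∀ z : X, (C.HS.toFinset.filter fun F => z ∈ F).card = (C.Fx a).ncard := by
    intro z
    rw [← C.count_through hxy ha.1 ha1 z, ← Set.ncard_coe_finset]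
    simp
  have h3 : C.HS.toFinset.card * (C.Fx a).ncard = Fintype.card X * (C.Fx a).ncard := by
    rw [← smul_eq_mul, ← smul_eq_mul, ← Finset.sum_const, ← Finset.card_univ, ← Finset.sum_const,
      ← Finset.sum_congr rfl h1, ← Finset.sum_congr rfl fun z _ => h2 z]
    simp only [Finset.card_filter]
    exact Finset.sum_comm
  have h4 : 0 < (C.Fx a).ncard := (Set.ncard_pos (Set.toFinite _)).2 ⟨x, C.le_stab x a ha.1⟩
  rw [Set.ncard_eq_toFinset_card', Nat.card_eq_fintype_card,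
    Nat.eq_of_mul_eq_mul_right h4 h3]

end Conf

end Cfsg.Agent.CG26.ONan
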