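import Cfsg.Agent.CG26.ONan.Hyper
import Cfsg.Agent.CG26.Ito.Main

/-!
# The stabiliser of a hyperplane, and recognition
-/

set_option autoImplicit false
set_option linter.unusedSectionVars false

namespace Cfsg.Agent.CG26.ONan

open MulAction Pointwise

namespace Conf

variable {G X : Type*} [Group G] [MulAction G X] [Finite G] [Finite X] {p : ℕ}
  [Fact p.Prime] (C : Conf G X p)

theorem smul_Fx (g a : G) : g • C.Fx a = C.Fx (g * a * g⁻¹) := by
  ext z
  rw [Set.mem_smul_set_iff_inv_smul_mem, mem_Fx, mem_Fx, mul_smul, mul_smul,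
    ← inv_smul_eq_iff (g := g⁻¹), inv_inv]

include C in
theorem card_le_orbit {F₀ : Set X} {x₀ y₀ : X} (hx : x₀ ∈ F₀) (hy : y₀ ∉ F₀) :
    Nat.card X ≤ (orbit G F₀).ncard := by
  classical
  have := Fintype.ofFinite X
  let O := orbit G F₀
  have : Fintype O := Fintype.ofFinite _
  have hinv : ∀ (g : G) (x y : X),
      (Finset.univ.filter fun F : O => g • x ∈ (F : Set X) ∧ g • y ∈ (F : Set X)).card =
        (Finset.univ.filter fun F : O => x ∈ (F : Set X) ∧ y ∈ (F : Set X)).card := by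
    intro g x y
    refine Finset.card_bij' (fun F _ => g⁻¹ • F) (fun F _ => g • F) ?_ ?_ ?_ ?_
    · intro F hF
      simp only [Finset.mem_filter, Finset.mem_univ, true_and, orbit.coe_smul] at hF ⊢
      refine ⟨?_, ?_⟩
      · show x ∈ g⁻¹ • (F : Set X)
        rw [Set.mem_smul_set_iff_inv_smul_mem, inv_inv]; exact hF.1
      · show y ∈ g⁻¹ • (F : Set X)
        rw [Set.mem_smul_set_iff_inv_smul_mem, inv_inv]; exact hF.2
    · intro F hF
      simp only [Finset.mem_filter, Finset.mem_univ, true_and, orbit.coe_smul] at hF ⊢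
      exact ⟨Set.smul_mem_smul_set hF.1, Set.smul_mem_smul_set hF.2⟩
    · intro F _; exact smul_inv_smul g F
    · intro F _; exact inv_smul_smul g F
  have hxy₀ : x₀ ≠ y₀ := fun e => hy (e ▸ hx)
  set ρ := (Finset.univ.filter fun F : O => x₀ ∈ (F : Set X) ∧ x₀ ∈ (F : Set X)).card with hρ
  set lam := (Finset.univ.filter fun F : O => x₀ ∈ (F : Set X) ∧ y₀ ∈ (F : Set X)).card with hlam
  have hcnt : ∀ x y : X, (Finset.univ.filter fun F : O => x ∈ (F : Set X) ∧ y ∈ (F : Set X)).card =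
      if x = y then ρ else lam := by
    intro x y
    split <;> rename_i h
    · subst h
      by_cases hxx : x₀ = x
      · rw [hρ, hxx]
      · obtain ⟨g, hg, -⟩ := C.tt x₀ x x x₀ hxx (Ne.symm hxx)
        rw [hρ, ← hinv g x₀ x₀, hg]
    · obtain ⟨g, hg, hg'⟩ := C.tt x₀ y₀ x y hxy₀ h
      rw [hlam, ← hinv g x₀ y₀, hg, hg']
  have hlt : lam < ρ := by
    refine Finset.card_lt_card ⟨fun F hF => ?_, fun h => ?_⟩
    · simp only [Finset.mem_filter, Finset.mem_univ, true_and] at hF ⊢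
      exact ⟨hF.1, hF.1⟩
    · have h1 := h (x := (⟨F₀, mem_orbit_self F₀⟩ : O)) (by simp [hx])
      simp only [Finset.mem_filter, Finset.mem_univ, true_and] at h1
      exact hy h1.2
  let f : (X → ℚ) →ₗ[ℚ] (O → ℚ) :=
    { toFun := fun c F => ∑ x : X, if x ∈ (F : Set X) then c x else 0
      map_add' := fun c c' => by
        funext F
        simp only [Pi.add_apply, ← Finset.sum_add_distrib]
        exact Finset.sum_congr rfl fun x _ => by split <;> simp
      map_smul' := fun a c => by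
        funext F
        simp only [Pi.smul_apply, smul_eq_mul, RingHom.id_apply, Finset.mul_sum]
        exact Finset.sum_congr rfl fun x _ => by split <;> simp }
  have hinj : Function.Injective f := by
    rw [← LinearMap.ker_eq_bot, LinearMap.ker_eq_bot']
    intro c hc
    have h1 : ∑ F : O, f c F * f c F = 0 := by rw [hc]; simp
    have h2 : ∑ F : O, f c F * f c F =
        ∑ x : X, ∑ y : X, c x * c y * ((lam : ℚ) + if x = y then ((ρ : ℚ) - lam) else 0) := by
      simp only [f, LinearMap.coe_mk, AddHom.coe_mk, Finset.sum_mul_sum]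
      rw [Finset.sum_comm]
      refine Finset.sum_congr rfl fun x _ => ?_
      rw [Finset.sum_comm]
      refine Finset.sum_congr rfl fun y _ => ?_
      have e : ∀ F : O, (if x ∈ (F : Set X) then c x else 0) * (if y ∈ (F : Set X) then c y else 0) =
          c x * c y * (if x ∈ (F : Set X) ∧ y ∈ (F : Set X) then 1 else 0) := by
        intro F
        by_cases h1 : x ∈ (F : Set X) <;> by_cases h2 : y ∈ (F : Set X) <;> simp [h1, h2]
      rw [Finset.sum_congr rfl fun F _ => e F, ← Finset.mul_sum, Finset.sum_boole, hcnt]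
      by_cases h : x = y <;> simp [h]
    rw [h2] at h1
    have h3 : (lam : ℚ) * ((∑ x : X, c x) * ∑ x : X, c x) +
        ((ρ : ℚ) - lam) * ∑ x : X, c x * c x = 0 := by
      rw [← h1, Finset.sum_mul_sum, Finset.mul_sum, Finset.mul_sum, ← Finset.sum_add_distrib]
      refine Finset.sum_congr rfl fun x _ => ?_
      simp only [mul_add, mul_ite, mul_zero, Finset.sum_add_distrib, Finset.sum_ite_eq,
        Finset.mem_univ, if_true, Finset.mul_sum]
      congr 1
      · exact Finset.sum_congr rfl fun y _ => by ring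
      · ring
    have h4 : ∑ x : X, c x * c x = 0 := by
      have hl : (0 : ℚ) < (ρ : ℚ) - lam := sub_pos.2 (by exact_mod_cast hlt)
      have h5 : (0 : ℚ) ≤ ∑ x : X, c x * c x := Finset.sum_nonneg fun x _ => mul_self_nonneg _
      have h6 : (0 : ℚ) ≤ (lam : ℚ) * ((∑ x : X, c x) * ∑ x : X, c x) :=
        mul_nonneg (Nat.cast_nonneg _) (mul_self_nonneg _)
      nlinarith
    funext x
    have := (Finset.sum_eq_zero_iff_of_nonneg fun x _ => mul_self_nonneg (c x)).1 h4 x
      (Finset.mem_univ x)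
    exact mul_self_eq_zero.1 this
  have h := LinearMap.finrank_le_finrank_of_injective hinj
  rw [Module.finrank_fintype_fun_eq_card, Module.finrank_fintype_fun_eq_card] at h
  rw [Nat.card_eq_fintype_card, ← Nat.card_coe_set_eq, Nat.card_eq_fintype_card]
  exact h

include C in
theorem main (h2 : IsMultiplyPretransitive G X 2) (hfaith : FaithfulSMul G X)
    {x₀ y₀ : X} (hxy : x₀ ≠ y₀) :
    ∃ (m : ℕ) (F : Type) (_ : Field F) (_ : Fintype F), 2 ≤ m ∧
      Nat.card X = (Fintype.card F ^ (m + 1) - 1) / (Fintype.card F - 1) ∧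
      ∃ N : Subgroup G, N.Normal ∧
        Nonempty (N ≃* Matrix.ProjectiveSpecialLinearGroup (Fin (m + 1)) F) ∧
        Subgroup.centralizer (N : Set G) = ⊥ := by
  have := hfaith
  obtain ⟨a, ha, ha1⟩ := C.exists_ne_one hxy
  obtain ⟨u, hu⟩ := C.exists_moved ha1 ha.1
  obtain ⟨y, hy, hyx⟩ := C.two_le_Fx (x := x₀) ⟨y₀, hxy⟩ ha.1
  set F₀ := C.Fx a with hF₀
  have hxF : x₀ ∈ F₀ := C.le_stab x₀ a ha.1
  have horb : orbit G F₀ ⊆ C.HS := by
    rintro _ ⟨g, rfl⟩
    refine ⟨g • x₀, g * a * g⁻¹, C.conj g x₀ a ha.1, fun e => ha1 ?_, C.smul_Fx g a⟩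
    rwa [mul_inv_eq_one, mul_eq_left] at e
  have hidx : (stabilizer G F₀).index = Nat.card X := by
    rw [index_stabilizer]
    refine le_antisymm ?_ (C.card_le_orbit hxF (show u ∉ F₀ from hu))
    rw [← C.card_HS hxy]
    exact Set.ncard_le_ncard horb (Set.toFinite _)
  have hstab : ∀ g : G, g ∈ stabilizer G F₀ → ∀ z, z ∈ F₀ → g • z ∈ F₀ := fun g hg z hz => by
    rw [mem_stabilizer_iff] at hg
    exact hg ▸ Set.smul_mem_smul_set hz
  have hAF : ∀ z ∈ F₀, ∀ b ∈ C.A z, b ∈ stabilizer G F₀ := by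
    intro z hz b hb
    have key : ∀ c ∈ C.A z, ∀ h ∈ F₀, c • h ∈ F₀ := by
      intro c hc h hh
      by_cases hhz : h = z
      · rw [hhz, C.le_stab z c hc]; exact hz
      · exact C.fix_sub ha.1 hz hh (Ne.symm hhz) (C.orbit_line hc (Ne.symm hhz))
    rw [mem_stabilizer_iff]
    ext h
    rw [Set.mem_smul_set_iff_inv_smul_mem]
    exact ⟨fun hh => by simpa using key b hb _ hh, key b⁻¹ (inv_mem hb) h⟩
  refine Ito.recognition h2 (stabilizer G F₀) hidx (fun ht => ?_) (fun z => ?_)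
    ⟨x₀, ⟨a, hAF x₀ hxF a ha.1⟩, fun e => ha1 (congrArg Subtype.val e), ?_⟩
  · obtain ⟨g, hg⟩ := ht.exists_smul_eq x₀ u
    exact hu (show u ∈ F₀ from hg ▸ hstab g g.2 x₀ hxF)
  · by_cases hz : z ∈ F₀
    · obtain ⟨w, hw, hwz⟩ : ∃ w ∈ F₀, w ≠ z := by
        by_cases h : x₀ = z
        · exact ⟨y, hy, h ▸ hyx⟩
        · exact ⟨x₀, hxF, h⟩
      obtain ⟨b, hb, hbz⟩ := C.exists_moves hwz
      exact ⟨⟨b, hAF w hw b hb⟩, hbz⟩
    · have hzx : z ≠ x₀ := fun e => hz (e ▸ hxF)
      exact ⟨⟨a, hAF x₀ hxF a ha.1⟩, hz⟩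
  · rintro _ ⟨g, rfl⟩
    exact hstab g g.2 x₀ hxF

end Conf

theorem exists_conf {G X : Type*} [Group G] [Finite G] [MulAction G X] [FaithfulSMul G X]
    (h2 : IsMultiplyPretransitive G X 2) (x : X) (N : Subgroup G)
    (hNle : N ≤ stabilizer G x) (hNnormal : ∀ g ∈ stabilizer G x, ∀ n ∈ N, g * n * g⁻¹ ∈ N)
    (hab : ∀ a ∈ N, ∀ b ∈ N, a * b = b * a)
    (hnsr : ∃ n ∈ N, n ≠ 1 ∧ ∃ y : X, y ≠ x ∧ n • y = y) :
    ∃ p : ℕ, p.Prime ∧ Nonempty (Conf G X p) := by
  obtain ⟨n, hn, hn1, y, hyx, hny⟩ := hnsr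
  have h2' : ∀ {a b c d : X}, a ≠ b → c ≠ d → ∃ g : G, g • a = c ∧ g • b = d :=
    is_two_pretransitive_iff.1 h2
  obtain ⟨p, hp, hpd⟩ := Nat.exists_prime_and_dvd (n := orderOf n) (by
    rw [Ne, orderOf_eq_one_iff]; exact hn1)
  set m := n ^ (orderOf n / p) with hm
  have hm1 : m ≠ 1 := by
    intro e
    have h0 := orderOf_dvd_of_pow_eq_one e
    have hpos := orderOf_pos n
    have := Nat.le_of_dvd (Nat.div_pos (Nat.le_of_dvd hpos hpd) hp.pos) h0
    exact absurd (Nat.div_lt_self hpos hp.one_lt) (not_lt.2 this)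
  have hmp : m ^ p = 1 := by
    rw [hm, ← pow_mul, Nat.div_mul_cancel hpd, pow_orderOf_eq_one]
  have hmy : m • y = y := by
    have : n ∈ stabilizer G y := hny
    exact (stabilizer G y).pow_mem this _
  let N' : Subgroup G :=
    { carrier := {a | a ∈ N ∧ a ^ p = 1}
      one_mem' := ⟨one_mem _, one_pow _⟩
      mul_mem' := fun {a b} ha hb => ⟨mul_mem ha.1 hb.1, by
        rw [(Commute.mul_pow (hab a ha.1 b hb.1) p), ha.2, hb.2, one_mul]⟩
      inv_mem' := fun {a} ha => ⟨inv_mem ha.1, by rw [inv_pow, ha.2, inv_one]⟩ }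
  have hN' : ∀ g ∈ stabilizer G x, ∀ a ∈ N', g * a * g⁻¹ ∈ N' := fun g hg a ha =>
    ⟨hNnormal g hg a ha.1, by rw [conj_pow, ha.2, mul_one, mul_inv_cancel]⟩
  have htr : ∀ z : X, ∃ g : G, g • x = z := fun z => by
    by_cases h : x = z
    · exact ⟨1, by rw [one_smul, h]⟩
    · obtain ⟨g, hg, -⟩ := h2' h (Ne.symm h)
      exact ⟨g, hg⟩
  choose τ hτ using htr
  have key : ∀ (z : X) (g a : G), g • x = z → ((τ z)⁻¹ * a * τ z ∈ N' ↔ g⁻¹ * a * g ∈ N') := by
    intro z g a hg
    have hs : (τ z)⁻¹ * g ∈ stabilizer G x := by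
      rw [mem_stabilizer_iff, mul_smul, hg, inv_smul_eq_iff, hτ]
    constructor
    · intro h
      have := hN' _ (inv_mem hs) _ h
      simpa [mul_assoc] using this
    · intro h
      have := hN' _ hs _ h
      simpa [mul_assoc] using this
  refine ⟨p, hp, ⟨{
    A := fun z => N'.comap (MulAut.conj (τ z)⁻¹).toMonoidHom
    le_stab := ?_
    conj := ?_
    comm := ?_
    expo := ?_
    tt := fun a b c d hab' hcd => h2' hab' hcd
    faithful := fun g hg => eq_of_smul_eq_smul fun z => by rw [hg z, one_smul]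
    notsemi := ?_ }⟩⟩
  · intro z a ha
    have h1 : (τ z)⁻¹ * a * τ z ∈ N' := by simpa using ha
    have := hNle h1.1
    rwa [mem_stabilizer_iff, mul_smul, mul_smul, hτ, inv_smul_eq_iff, hτ] at this
  · intro g z a ha
    have h1 : (τ z)⁻¹ * a * τ z ∈ N' := by simpa using ha
    have h3 := (key (g • z) (g * τ z) (g * a * g⁻¹) (by rw [mul_smul, hτ])).2
      (by simpa [mul_assoc] using h1)
    simpa [mul_assoc] using h3
  · intro z a b ha hb
    have h1 : (τ z)⁻¹ * a * τ z ∈ N' := by simpa using ha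
    have h1' : (τ z)⁻¹ * b * τ z ∈ N' := by simpa using hb
    have h3 := hab _ h1.1 _ h1'.1
    have h4 : (τ z)⁻¹ * (a * b) * τ z = (τ z)⁻¹ * (b * a) * τ z := by
      calc _ = (τ z)⁻¹ * a * τ z * ((τ z)⁻¹ * b * τ z) := by group
        _ = _ := by rw [h3]; group
    exact mul_left_cancel (mul_right_cancel h4)
  · intro z a ha
    have h1 : (τ z)⁻¹ * a * τ z ∈ N' := by simpa using ha
    have h3 := h1.2
    have h4 : ((τ z)⁻¹ * a * τ z) ^ p = (τ z)⁻¹ * a ^ p * τ z := by
      simpa using conj_pow (i := p) (a := (τ z)⁻¹) (b := a)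
    rw [h4] at h3
    calc a ^ p = τ z * ((τ z)⁻¹ * a ^ p * τ z) * (τ z)⁻¹ := by group
      _ = 1 := by rw [h3]; group
  · intro u w huw
    obtain ⟨g, hgx, hgy⟩ := h2' hyx.symm huw
    refine ⟨g * m * g⁻¹, ?_, ?_, ?_⟩
    · have := (key u g (g * m * g⁻¹) hgx).2 (by
        have : m ∈ N' := ⟨N.pow_mem hn _, hmp⟩
        simpa [mul_assoc] using this)
      simpa using this
    · intro e
      rw [mul_inv_eq_one, mul_eq_left] at e
      exact hm1 e
    · rw [← hgy, mul_smul, mul_smul, inv_smul_smul, hmy]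

end Cfsg.Agent.CG26.ONan
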