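import Cfsg.Agent.CG26.ONan.Basic
import Cfsg.Agent.CG26.Ito.GroupTools

/-!
# The subgroups `D x p`, `p` on a line, form a spread
-/

set_option autoImplicit false
set_option linter.unusedSectionVars false

namespace Cfsg.Agent.CG26.ONan

open MulAction

namespace Conf

variable {G X : Type*} [Group G] [MulAction G X] [Finite G] [Finite X] {p : ℕ}
  [Fact p.Prime] (C : Conf G X p)

theorem D_line {x y z : X} (hxy : x ≠ y) (hz : z ∈ C.line x y) (hzx : z ≠ x) :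
    C.D x z = C.D x y :=
  (C.D_eq_of_le hxy hzx.symm fun _ ha => ⟨ha.1, C.J_fix_line (C.D_le_J x y ha) hz⟩).symm

theorem fix_line {x y z : X} {a : G} (ha : a ∈ C.A x) (hay : a • y = y) (hz : z ∈ C.line x y) :
    a • z = z :=
  C.J_fix_line (C.D_le_J x y (C.mem_D.2 ⟨ha, hay⟩)) hz

/-- The fixed points of an element of `A x` form a subspace. -/
theorem fix_sub {x u v w : X} {a : G} (ha : a ∈ C.A x) (hau : a • u = u) (hav : a • v = v)
    (huv : u ≠ v) (hw : w ∈ C.line u v) : a • w = w := by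
  by_cases hx : x ∈ C.line u v
  · by_cases hxu : x = u
    · subst hxu; exact C.fix_line ha hav hw
    · rw [← C.line_eq huv hx (C.left_mem u v) hxu] at hw
      exact C.fix_line ha hau hw
  · have hwx : w ≠ x := fun e => hx (e ▸ hw)
    by_contra hne
    have h1 : a • w ∈ C.line u v := by
      have := C.smul_line a u v hw
      rwa [hau, hav] at this
    have h2 : a • w ∈ C.line x w := C.orbit_line ha hwx.symm
    have h3 := C.line_eq hwx.symm (C.right_mem x w) h2 (Ne.symm hne)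
    rw [C.line_eq huv hw h1 (Ne.symm hne)] at h3
    exact hx (h3.symm ▸ C.left_mem x w)

/-! ### Proper triangles -/

theorem D_symm {x y z : X} (hxy : x ≠ y) (hxz : x ≠ z) (hyz : y ≠ z) (h : C.D x y = C.D x z) :
    C.D y x = C.D y z := by
  by_contra hne
  obtain ⟨e, he, hex⟩ : ∃ e ∈ C.D y z, e • x ≠ x := by
    by_contra hc
    push Not at hc
    exact hne (C.D_eq_of_le hyz hxy.symm fun e he => C.mem_D.2 ⟨he.1, hc e he⟩).symm
  have hey : e • y = y := C.D_left he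
  have hxy' : e • x ≠ y := fun h' => hxy (smul_left_cancel e (h'.trans hey.symm))
  have hJ : C.J (e • x) y = C.J x y := by
    rw [C.J_symm, C.J_symm x y]
    exact (C.orbit_line he.1 hxy.symm).resolve_left hxy'
  have hD'z : ∀ a ∈ C.D (e • x) y, a • z = z := by
    intro a ha
    have h1 : e⁻¹ * a * e ∈ C.D x y := (C.mem_D_smul e x y a).1 (by rwa [hey])
    rw [h] at h1
    have h2 := (C.mem_D.1 h1).2
    rwa [ mul_smul, mul_smul, inv_smul_eq_iff, he.2] at h2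
  let f : C.D x y × C.D (e • x) y → C.J x y := fun q =>
    ⟨(q.1 : G) * q.2, mul_mem (C.D_le_J x y q.1.2) (hJ ▸ C.D_le_J (e • x) y q.2.2)⟩
  have hinj : Function.Injective f := by
    intro q r hqr
    have h' : (q.1 : G) * q.2 = r.1 * r.2 := congrArg Subtype.val hqr
    have h'' : ((r.1 : G))⁻¹ * q.1 = (r.2 : G) * (q.2 : G)⁻¹ := by
      rw [inv_mul_eq_iff_eq_mul, ← mul_assoc, ← h', mul_inv_cancel_right]
    have h1 := C.eq_one_of_mem (Ne.symm hex) (mul_mem (inv_mem r.1.2.1) q.1.2.1)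
      (h''.symm ▸ mul_mem r.2.2.1 (inv_mem q.2.2.1))
    have h2 : (r.1 : G) = q.1 := inv_mul_eq_one.1 h1
    rw [← h2] at h'
    exact Prod.ext (Subtype.ext h2.symm) (Subtype.ext (mul_left_cancel h'))
  have hbij := (Nat.bijective_iff_injective_and_card f).2 ⟨hinj, by
    rw [Nat.card_prod, C.card_J hxy, C.card_D hxy' hxy.symm]⟩
  have hBz : ∀ b ∈ C.D y x, b • z = z := by
    intro b hb
    obtain ⟨q, hq⟩ := hbij.2 ⟨b, C.D_le_J' x y hb⟩
    have : (q.1 : G) * q.2 = b := congrArg Subtype.val hq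
    rw [← this, mul_smul, hD'z _ q.2.2]
    exact (h ▸ q.1.2 : (q.1 : G) ∈ C.D x z).2
  have := C.D_eq_of_le hxy.symm hyz fun b hb => C.mem_D.2 ⟨hb.1, hBz b hb⟩
  exact hne this

/-- A triangle whose two `D`s at the first vertex differ. -/
def Nd (x y w : X) : Prop := x ≠ y ∧ x ≠ w ∧ C.D x y ≠ C.D x w

section
variable {C}

theorem Nd.ne {x y w : X} (h : C.Nd x y w) : y ≠ w := fun e => h.2.2 (by rw [e])

theorem Nd.swap {x y w : X} (h : C.Nd x y w) : C.Nd x w y := ⟨h.2.1, h.1, h.2.2.symm⟩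

theorem Nd.rot {x y w : X} (h : C.Nd x y w) : C.Nd y x w :=
  ⟨h.1.symm, h.ne, fun e => h.2.2 (C.D_symm h.1.symm h.ne h.2.1 e)⟩

theorem Nd.not_mem {x y w : X} (h : C.Nd x y w) : w ∉ C.line x y :=
  fun hw => h.2.2 (C.D_line h.1 hw h.2.1.symm).symm

theorem Nd.not_mem' {x y w : X} (h : C.Nd x y w) : x ∉ C.line y w := fun hx =>
  h.not_mem ((C.line_eq h.ne hx (C.left_mem y w) h.1).symm ▸ C.right_mem y w)

end

theorem exists_nd {x y : X} (hxy : x ≠ y) : ∃ w, C.Nd x y w := by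
  by_contra hc
  push Not at hc
  obtain ⟨a, ha, ha1⟩ := C.exists_ne_one hxy
  refine ha1 (C.faithful a fun w => ?_)
  by_cases hwx : x = w
  · rw [← hwx]; exact C.D_left ha
  · have : C.D x y = C.D x w := by_contra fun h => hc w ⟨hxy, hwx, h⟩
    exact (this ▸ ha : a ∈ C.D x w).2

theorem conj_fix {x y : X} {n b : G} (hn : n ∈ C.A x) (hxy : x ≠ y) (hb : b ∈ C.J x y) :
    b * n * b⁻¹ * n⁻¹ ∈ C.D x y := by
  refine C.mem_D.2 ⟨mul_mem (C.conj_mem (C.J_left hb) hn) (inv_mem hn), ?_⟩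
  have h1 : n⁻¹ • y ∈ C.line x y := C.orbit_line (inv_mem hn) hxy
  rw [mul_smul, mul_smul, mul_smul, C.J_fix_line (inv_mem hb) h1, smul_inv_smul, C.J_right hb]

theorem card_inf_le {x y w : X} (h : C.Nd x y w) :
    Nat.card ↥(C.D y x ⊓ C.D y w) ≤ Nat.card ↥(C.D x y ⊓ C.D x w) := by
  obtain ⟨n, hnw, hny⟩ : ∃ n ∈ C.D x w, n • y ≠ y := by
    by_contra hc
    push Not at hc
    exact h.2.2 (C.D_eq_of_le h.2.1 h.1 fun n hn => C.mem_D.2 ⟨hn.1, hc n hn⟩).symm
  refine Nat.card_le_card_of_injective (fun b => (⟨(b : G) * n * (b : G)⁻¹ * n⁻¹,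
    C.conj_fix hnw.1 h.1 (C.D_le_J' x y b.2.1), C.mem_D.2 ⟨mul_mem (C.conj_mem
      b.2.1.2 hnw.1) (inv_mem hnw.1), ?_⟩⟩ : ↥(C.D x y ⊓ C.D x w))) fun b b' e => ?_
  · have hbw : (b : G) • w = w := b.2.2.2
    have hbw' : (b : G)⁻¹ • w = w := by rw [inv_smul_eq_iff, hbw]
    have hn' : n⁻¹ • w = w := by rw [inv_smul_eq_iff, hnw.2]
    rw [mul_smul, mul_smul, mul_smul, hn', hbw', hnw.2, hbw]
  · have e' : (b : G) * n * (b : G)⁻¹ * n⁻¹ = (b' : G) * n * (b' : G)⁻¹ * n⁻¹ :=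
      congrArg Subtype.val e
    set c := (b' : G)⁻¹ * b with hc
    have hcn : n * c * n⁻¹ = c := by
      rw [mul_right_cancel_iff] at e'
      rw [mul_inv_eq_iff_eq_mul]
      calc n * c = (b' : G)⁻¹ * ((b' : G) * n * (b' : G)⁻¹) * b := by rw [hc]; group
        _ = (b' : G)⁻¹ * ((b : G) * n * (b : G)⁻¹) * b := by rw [e']
        _ = c * n := by rw [hc]; group
    have hcy : c ∈ C.A y := mul_mem (inv_mem b'.2.1.1) b.2.1.1
    have h2 := C.conj n y c hcy
    rw [hcn] at h2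
    exact Subtype.ext (inv_mul_eq_one.1 (C.eq_one_of_mem hny.symm hcy h2)).symm

theorem card_inf_rot {x y w : X} (h : C.Nd x y w) :
    Nat.card ↥(C.D y x ⊓ C.D y w) = Nat.card ↥(C.D x y ⊓ C.D x w) :=
  le_antisymm (C.card_inf_le h) (C.card_inf_le h.rot)

theorem Nd.of_line {C : Conf G X p} {x y w z : X} (h : C.Nd x y w) (hz : z ∈ C.line y w) (hzy : z ≠ y) :
    C.Nd x y z :=
  Nd.rot ⟨h.1.symm, hzy.symm, fun e => h.rot.2.2 (e.trans (C.D_line h.ne hz hzy))⟩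

theorem inf_eq_left {x y w z : X} (h : C.Nd x y w) (hz : z ∈ C.line y w) (hzy : z ≠ y) :
    C.D x y ⊓ C.D x z = C.D x y ⊓ C.D x w := by
  refine (eq_of_le_card (le_inf inf_le_left fun a (ha : a ∈ C.D x y ⊓ C.D x w) => C.mem_D.2 ⟨ha.1.1, ?_⟩) ?_).symm
  · exact C.fix_sub ha.1.1 ha.1.2 ha.2.2 h.ne hz
  · rw [← C.card_inf_rot h, ← C.card_inf_rot (h.of_line hz hzy), C.D_line h.ne hz hzy]

theorem Nd.of_pair {C : Conf G X p} {x y w u v : X} (h : C.Nd x y w) (hu : u ∈ C.line y w) (hv : v ∈ C.line y w)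
    (huv : u ≠ v) : C.Nd x u v ∧ C.D x u ⊓ C.D x v = C.D x y ⊓ C.D x w := by
  by_cases huy : u = y
  · subst huy; exact ⟨h.of_line hv huv.symm, C.inf_eq_left h hv huv.symm⟩
  have h1 := (h.of_line hu huy).swap
  have hl : C.line u y = C.line y w := C.line_eq h.ne hu (C.left_mem y w) huy
  refine ⟨h1.of_line (hl.symm ▸ hv) huv.symm, ?_⟩
  rw [C.inf_eq_left h1 (hl.symm ▸ hv) huv.symm, inf_comm, C.inf_eq_left h hu huy]

theorem inf_le_D {x y w z : X} (h : C.Nd x y w) (hz : z ∈ C.line y w) :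
    C.D x y ⊓ C.D x w ≤ C.D x z :=
  fun a (ha : a ∈ C.D x y ⊓ C.D x w) => C.mem_D.2 ⟨ha.1.1, C.fix_sub ha.1.1 ha.1.2 ha.2.2 h.ne hz⟩

theorem inf_conj {x y w : X} (h : C.Nd x y w) {b u : G} (hb : b ∈ C.D y x)
    (hu : u ∈ C.D x y ⊓ C.D x w) : b * u * b⁻¹ ∈ C.D x y ⊓ C.D x w := by
  refine ⟨C.mem_D.2 ⟨C.conj_mem hb.2 hu.1.1, ?_⟩, C.mem_D.2 ⟨C.conj_mem hb.2 hu.1.1, ?_⟩⟩
  · rw [mul_smul, mul_smul, C.D_left (inv_mem hb), hu.1.2, C.D_left hb]
  · have h1 : b⁻¹ • w ∈ C.line y w := C.orbit_line (inv_mem hb.1) h.ne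
    rw [mul_smul, mul_smul, (C.inf_le_D h h1 hu).2, smul_inv_smul]

/-- Products of commuting subgroups. -/
theorem card_sup {x : X} (H K : Subgroup G) (hH : H ≤ C.A x) (hK : K ≤ C.A x) :
    (∀ g, g ∈ H ⊔ K ↔ ∃ h ∈ H, ∃ k ∈ K, g = h * k) ∧
      Nat.card ↥(H ⊔ K) * Nat.card ↥(H ⊓ K) = Nat.card H * Nat.card K := by
  let P : Subgroup G :=
    { carrier := {g | ∃ h ∈ H, ∃ k ∈ K, g = h * k}
      one_mem' := ⟨1, one_mem _, 1, one_mem _, (one_mul 1).symm⟩
      mul_mem' := by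
        rintro _ _ ⟨a, ha, b, hb, rfl⟩ ⟨a', ha', b', hb', rfl⟩
        refine ⟨a * a', mul_mem ha ha', b * b', mul_mem hb hb', ?_⟩
        rw [mul_assoc, ← mul_assoc b, C.comm x b a' (hK hb) (hH ha'), mul_assoc a' b,
          ← mul_assoc a a']
      inv_mem' := by
        rintro _ ⟨a, ha, b, hb, rfl⟩
        refine ⟨a⁻¹, inv_mem ha, b⁻¹, inv_mem hb, ?_⟩
        rw [mul_inv_rev, C.comm x _ _ (inv_mem (hK hb)) (inv_mem (hH ha))] }
  have hP : H ⊔ K = P := le_antisymm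
    (sup_le (fun h hh => ⟨h, hh, 1, one_mem _, (mul_one h).symm⟩)
      fun k hk => ⟨1, one_mem _, k, hk, (one_mul k).symm⟩)
    (by rintro _ ⟨h, hh, k, hk, rfl⟩; exact Subgroup.mul_mem_sup hh hk)
  refine ⟨fun g => by rw [hP]; exact Iff.rfl, ?_⟩
  rw [hP, ← Nat.card_prod, ← Nat.card_prod]
  have hch : ∀ s : P, ∃ h : H, ∃ k : K, (s : G) = h * k := fun s => by
    obtain ⟨h, hh, k, hk, e⟩ := s.2
    exact ⟨⟨h, hh⟩, ⟨k, hk⟩, e⟩
  choose fh fk hfk using hch
  refine Nat.card_congr (Equiv.ofBijective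
    (fun q : P × ↥(H ⊓ K) =>
      ((fh q.1 * ⟨q.2, q.2.2.1⟩ : H), ((⟨q.2, q.2.2.2⟩ : K)⁻¹ * fk q.1 : K)))
    ⟨fun q r e => ?_, fun hk => ?_⟩)
  · have e1 : (fh q.1 : G) * q.2 = fh r.1 * r.2 := congrArg (fun t => ((t.1 : H) : G)) e
    have e2 : (q.2 : G)⁻¹ * fk q.1 = (r.2 : G)⁻¹ * fk r.1 := congrArg (fun t => ((t.2 : K) : G)) e
    have hs : q.1 = r.1 := Subtype.ext (by
      rw [hfk q.1, hfk r.1]
      calc (fh q.1 : G) * fk q.1 = ((fh q.1 : G) * q.2) * ((q.2 : G)⁻¹ * fk q.1) := by group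
        _ = ((fh r.1 : G) * r.2) * ((r.2 : G)⁻¹ * fk r.1) := by rw [e1, e2]
        _ = _ := by group)
    rw [hs] at e1
    exact Prod.ext hs (Subtype.ext (mul_left_cancel e1))
  · set s : P := ⟨hk.1 * hk.2, hk.1, hk.1.2, hk.2, hk.2.2, rfl⟩
    have es : (fh s : G) * fk s = hk.1 * hk.2 := (hfk s).symm
    have hu : ((fh s : G))⁻¹ * hk.1 = fk s * (hk.2 : G)⁻¹ := by
      rw [inv_mul_eq_iff_eq_mul, ← mul_assoc, es, mul_inv_cancel_right]
    refine ⟨(s, ⟨((fh s : G))⁻¹ * hk.1, H.mul_mem (H.inv_mem (fh s).2) hk.1.2,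
      hu.symm ▸ K.mul_mem (fk s).2 (K.inv_mem hk.2.2)⟩), Prod.ext (Subtype.ext ?_) (Subtype.ext ?_)⟩
    · simp
    · simp only [Subgroup.coe_mul, InvMemClass.coe_inv]
      rw [hu]; group

theorem cover_pair {x y w : X} (h : C.Nd x y w) {g : G} (hg : g ∈ C.D x y ⊔ C.D x w) :
    ∃ z ∈ C.line y w, g ∈ C.D x z ∧ C.D x z ≤ C.D x y ⊔ C.D x w := by
  obtain ⟨a, ha, a', ha', rfl⟩ :=
    ((C.card_sup (x := x) _ _ inf_le_left inf_le_left).1 g).1 hg
  set I := C.D x y ⊓ C.D x w with hI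
  by_cases haI : a' ∈ I
  · exact ⟨y, C.left_mem y w, mul_mem ha haI.1, le_sup_left⟩
  let P : Set X := orbit (C.D y x) w
  let T : Set (G ⧸ I) := orbit (C.D x y) (QuotientGroup.mk a' : G ⧸ I)
  have hPl : ∀ z ∈ P, z ∈ C.line y w ∧ z ≠ y := by
    rintro _ ⟨b, rfl⟩
    exact ⟨C.orbit_line b.2.1 h.ne, fun e => h.ne (smul_left_cancel (b : G)
      ((C.D_left b.2).trans e.symm))⟩
  have hb : ∀ z : P, ∃ b ∈ C.D y x, b • w = (z : X) := fun z => by
    obtain ⟨b, hb⟩ := z.2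
    exact ⟨b, b.2, hb⟩
  choose β hβ hβw using hb
  have hconj : ∀ z : P, ∀ n ∈ C.D x w, β z * n * (β z)⁻¹ ∈ C.D x z := by
    intro z n hn
    have h1 := (C.mem_D_smul (β z) x w (β z * n * (β z)⁻¹)).2 (by simpa [mul_assoc] using hn)
    rwa [(hβ z).2, hβw z] at h1
  have hsplit : ∀ z : P, ∀ n ∈ C.A x, β z * n * (β z)⁻¹ =
      (β z * n * (β z)⁻¹ * n⁻¹) * n := fun z n _ => by group
  let Φ : P → T := fun z => ⟨QuotientGroup.mk (β z * a' * (β z)⁻¹),
    ⟨⟨_, C.conj_fix ha'.1 h.1 (C.D_le_J' x y (hβ z))⟩, by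
      show (QuotientGroup.mk (_ * a') : G ⧸ I) = _
      exact (congrArg QuotientGroup.mk (hsplit z a' ha'.1)).symm⟩⟩
  have hinj : Function.Injective Φ := by
    intro z z' e
    by_contra hne
    have h1 : (β z * a' * (β z)⁻¹)⁻¹ * (β z' * a' * (β z')⁻¹) ∈ I :=
      QuotientGroup.eq.1 (congrArg Subtype.val e)
    have hz := (hPl z z.2).1
    have hz' := (hPl z' z'.2).1
    have h2 : β z' * a' * (β z')⁻¹ ∈ C.D x z := by
      have := mul_mem (hconj z a' ha') (C.inf_le_D h hz h1)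
      simpa [mul_assoc] using this
    have hzz : (z : X) ≠ z' := fun e' => hne (Subtype.ext e')
    have h3 : β z' * a' * (β z')⁻¹ ∈ I :=
      (h.of_pair hz hz' hzz).2.le ⟨h2, hconj z' a' ha'⟩
    have h4 := C.inf_conj h (inv_mem (hβ z')) h3
    exact haI (show a' ∈ I from by simpa [hI, mul_assoc] using h4)
  have hcardP : Nat.card P * Nat.card I = Nat.card (C.D y x) := by
    rw [Nat.card_coe_set_eq, ← Ito.orbit_mul_stab (C.D y x) w, ← C.card_inf_rot h]
    congr 1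
    exact Nat.card_congr
      { toFun := fun b => ⟨⟨b, b.2.1⟩, show (b : G) • w = w from b.2.2.2⟩
        invFun := fun b => ⟨b.1, b.1.2, C.mem_D.2 ⟨b.1.2.1, b.2⟩⟩
        left_inv := fun b => rfl
        right_inv := fun b => rfl }
  have hcardT : Nat.card T * Nat.card I = Nat.card (C.D x y) := by
    rw [Nat.card_coe_set_eq, ← Ito.orbit_mul_stab (C.D x y) (QuotientGroup.mk a' : G ⧸ I)]
    congr 1
    have key : ∀ b ∈ C.D x y, ((QuotientGroup.mk (b * a') : G ⧸ I) = QuotientGroup.mk a' ↔ b ∈ I) := by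
      intro b hb
      rw [QuotientGroup.eq, mul_inv_rev, mul_assoc, C.comm x b⁻¹ a' (inv_mem hb.1) ha'.1,
        inv_mul_cancel_left, inv_mem_iff]
    exact Nat.card_congr
      { toFun := fun b => ⟨⟨b, b.2.1⟩, (key b b.2.1).2 b.2⟩
        invFun := fun b => ⟨b.1, (key b.1 b.1.2).1 b.2⟩
        left_inv := fun b => rfl
        right_inv := fun b => rfl }
  have hbij := (Nat.bijective_iff_injective_and_card Φ).2 ⟨hinj, by
    refine Nat.eq_of_mul_eq_mul_right (Nat.card_pos (α := I)) ?_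
    rw [hcardP, hcardT, C.card_D h.1.symm h.1]⟩
  obtain ⟨z, hz⟩ := hbij.2 ⟨QuotientGroup.mk (a * a'), ⟨⟨a, ha⟩, rfl⟩⟩
  have h1 : (β z * a' * (β z)⁻¹)⁻¹ * (a * a') ∈ I :=
    QuotientGroup.eq.1 (congrArg Subtype.val hz)
  refine ⟨z, (hPl z z.2).1, ?_, fun n hn => ?_⟩
  · have := mul_mem (hconj z a' ha') (C.inf_le_D h (hPl z z.2).1 h1)
    simpa [mul_assoc] using this
  · have h2 : (β z)⁻¹ * n * β z ∈ C.D x w :=
      (C.mem_D_smul (β z) x w n).1 (by rwa [(hβ z).2, hβw z])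
    have h3 := Subgroup.mul_mem_sup (T := C.D x w)
      (C.conj_fix h2.1 h.1 (C.D_le_J' x y (hβ z))) h2
    rw [← hsplit z _ h2.1] at h3
    simpa [mul_assoc] using h3

theorem count_members {x y w : X} (h : C.Nd x y w) (T : Subgroup G)
    (hIT : C.D x y ⊓ C.D x w ≤ T)
    (hcov : ∀ g ∈ T, ∃ z ∈ C.line y w, g ∈ C.D x z ∧ C.D x z ≤ T) :
    {z | z ∈ C.line y w ∧ C.D x z ≤ T}.ncard *
        (Nat.card (C.D x y) - Nat.card ↥(C.D x y ⊓ C.D x w)) =
      Nat.card T - Nat.card ↥(C.D x y ⊓ C.D x w) := by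
  classical
  have := Fintype.ofFinite G
  have := Fintype.ofFinite X
  set I := C.D x y ⊓ C.D x w with hI
  let N : Finset X := Finset.univ.filter fun z => z ∈ C.line y w ∧ C.D x z ≤ T
  let U : X → Finset G := fun z => Finset.univ.filter fun g => g ∈ C.D x z ∧ g ∉ I
  have hcard : ∀ H : Subgroup G, I ≤ H →
      (Finset.univ.filter fun g => g ∈ H ∧ g ∉ I).card = Nat.card H - Nat.card I := by
    intro H hH
    rw [← Set.ncard_coe_finset]
    have e : ((Finset.univ.filter fun g => g ∈ H ∧ g ∉ I : Finset G) : Set G) =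
        (H : Set G) \ (I : Set G) := by ext g; simp
    rw [e, Set.ncard_sdiff hH (Set.toFinite _), ← Nat.card_coe_set_eq, ← Nat.card_coe_set_eq]
    rfl
  have hU : ∀ z ∈ N, (U z).card = Nat.card (C.D x y) - Nat.card I := by
    intro z hz
    simp only [N, Finset.mem_filter] at hz
    rw [hcard _ (C.inf_le_D h hz.2.1), C.card_D (by rintro rfl; exact h.not_mem' hz.2.1) h.1]
  have hd : (N : Set X).PairwiseDisjoint U := by
    intro z hz z' hz' hne
    rw [Function.onFun, Finset.disjoint_left]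
    intro g h1 h2
    simp only [N, U, Finset.coe_filter, Finset.mem_filter, Set.mem_setOf_eq] at hz hz' h1 h2
    exact h1.2.2 ((h.of_pair hz.2.1 hz'.2.1 hne).2.le ⟨h1.2.1, h2.2.1⟩)
  have hun : N.biUnion U = Finset.univ.filter fun g => g ∈ T ∧ g ∉ I := by
    ext g
    simp only [N, U, Finset.mem_biUnion, Finset.mem_filter, Finset.mem_univ, true_and]
    constructor
    · rintro ⟨z, ⟨-, hz⟩, hg, hgI⟩
      exact ⟨hz hg, hgI⟩
    · rintro ⟨hg, hgI⟩
      obtain ⟨z, hz, hgz, hzT⟩ := hcov g hg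
      exact ⟨z, ⟨hz, hzT⟩, hgz, hgI⟩
  have := congrArg Finset.card hun
  rw [Finset.card_biUnion hd, Finset.sum_congr rfl hU, Finset.sum_const, smul_eq_mul,
    hcard T hIT] at this
  rw [← this, ← Set.ncard_coe_finset]
  simp [N]

theorem card_A (x y : X) : Nat.card (C.A x) = Nat.card (C.A y) := by
  by_cases h : x = y
  · rw [h]
  obtain ⟨g, hg, -⟩ := C.tt x y y x h (Ne.symm h)
  exact (card_conj g _ _ fun a => by rw [← hg, C.mem_smul_iff]).symm

theorem orbit_A {x z : X} :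
    (orbit (C.A x) z).ncard * Nat.card (C.D x z) = Nat.card (C.A x) := by
  rw [← Ito.orbit_mul_stab (C.A x) z]
  congr 1
  exact Nat.card_congr
    { toFun := fun b => ⟨⟨b, b.2.1⟩, b.2.2⟩
      invFun := fun b => ⟨b.1, C.mem_D.2 ⟨b.1.2, b.2⟩⟩
      left_inv := fun b => rfl
      right_inv := fun b => rfl }

theorem orbit_A_eq {x z u v : X} (hxz : x ≠ z) (huv : u ≠ v) :
    (orbit (C.A x) z).ncard = (orbit (C.A u) v).ncard :=
  Nat.eq_of_mul_eq_mul_right Nat.card_pos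
    ((C.orbit_A (x := x) (z := z)).trans ((C.card_A x u).trans
      ((C.orbit_A (x := u) (z := v)).symm.trans (by rw [C.card_D hxz huv]))))

theorem spread {x y w : X} (h : C.Nd x y w) :
    (C.line y w).ncard = (orbit (C.A x) y).ncard + 1 ∧
      C.D x y ⊔ C.D x w = C.A x ∧
      ∀ g ∈ C.A x, ∃ z ∈ C.line y w, g • z = z := by
  classical
  have := Fintype.ofFinite G
  have := Fintype.ofFinite X
  have hp : p.Prime := Fact.out
  set ℓ := C.line y w with hℓ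
  set I := C.D x y ⊓ C.D x w with hI
  set d := Nat.card (C.D x y) with hd
  set i := Nat.card I with hi
  set q := (orbit (C.A x) y).ncard with hq
  set S := C.D x y ⊔ C.D x w with hS
  set s := (orbit (C.D y x) w).ncard with hs
  have hi0 : 0 < i := Nat.card_pos
  have hsd : s * i = d := by
    rw [hd, C.card_D h.1 h.1.symm, hi, hI, ← C.card_inf_rot h, hs,
      ← Ito.orbit_mul_stab (C.D y x) w]
    congr 1
    exact Nat.card_congr
      { toFun := fun b => ⟨⟨b, b.2.1⟩, b.2.2.2⟩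
        invFun := fun b => ⟨b.1, b.1.2, C.mem_D.2 ⟨b.1.2.1, b.2⟩⟩
        left_inv := fun b => rfl
        right_inv := fun b => rfl }
  have hSA : S ≤ C.A x := sup_le inf_le_left inf_le_left
  have hIS : I ≤ S := inf_le_left.trans le_sup_left
  have hScard : Nat.card S = s * d := by
    have := (C.card_sup (x := x) (C.D x y) (C.D x w) inf_le_left inf_le_left).2
    rw [C.card_D h.2.1 h.1, ← hS, ← hI, ← hd, ← hi] at this
    refine Nat.eq_of_mul_eq_mul_right hi0 ?_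
    rw [this, ← hsd]; ring
  have hqd : q * d = Nat.card (C.A x) := C.orbit_A
  have hd0 : 0 < d := Nat.card_pos
  have hsq : s ≤ q := Nat.le_of_mul_le_mul_right (hScard ▸ hqd ▸
    Subgroup.card_le_of_le hSA) hd0
  have hs2 : 2 ≤ s := by
    by_contra hc
    have h2 : i ≥ d := by
      rw [← hsd]; exact (Nat.mul_le_mul_right i (Nat.lt_succ_iff.1 (not_le.1 hc))).trans (by simp)
    have h1 : I = C.D x y := eq_of_le_card inf_le_left
      (le_antisymm (Subgroup.card_le_of_le inf_le_left) h2)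
    exact h.2.2 (C.D_eq_of_le h.1 h.2.1 (h1.symm.le.trans inf_le_right))
  -- members inside a plane
  have hN : ∀ (T : Subgroup G) (m : ℕ), I ≤ T → Nat.card T = m * i →
      (∀ g ∈ T, ∃ z ∈ ℓ, g ∈ C.D x z ∧ C.D x z ≤ T) →
      {z | z ∈ ℓ ∧ C.D x z ≤ T}.ncard * (s - 1) = m - 1 := by
    intro T m hIT hT hcov
    have := C.count_members h T hIT hcov
    simp only [← hd, ← hI, ← hi, hT, ← hsd] at this
    refine Nat.eq_of_mul_eq_mul_right hi0 ?_
    rw [mul_assoc, Nat.sub_mul, Nat.sub_mul, one_mul]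
    exact this
  have hcovS : ∀ g ∈ S, ∃ z ∈ ℓ, g ∈ C.D x z ∧ C.D x z ≤ S := fun g hg => C.cover_pair h hg
  have hNS : {z | z ∈ ℓ ∧ C.D x z ≤ S}.ncard = s + 1 := by
    have := hN S (s * s) hIS (by rw [hScard, ← hsd]; ring) hcovS
    have e : s * s - 1 = (s + 1) * (s - 1) := by
      have : s ^ 2 - 1 ^ 2 = (s + 1) * (s - 1) := Nat.sq_sub_sq s 1
      simpa [pow_two] using this
    rw [e] at this
    exact Nat.eq_of_mul_eq_mul_right (by omega) this
  have hpq : ∀ u : ℕ, u ∣ Nat.card (C.A x) → ∃ a, u = p ^ a := by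
    intro u hu
    have hAp : IsPGroup p (C.A x) := fun g => ⟨1, by
      rw [pow_one]; exact Subtype.ext (C.expo x g g.2)⟩
    obtain ⟨k, hk⟩ := hAp.exists_card_eq
    obtain ⟨a, -, ha⟩ := (Nat.dvd_prime_pow hp).1 (hk ▸ hu)
    exact ⟨a, ha⟩
  have hsdvd : s ∣ Nat.card (C.A x) := ⟨i * q, by rw [← hqd, ← hsd]; ring⟩
  have hqk : q ∣ (ℓ \ {y}).ncard := by
    refine Ito.dvd_ncard_of_stab (C.A y) _ (fun g hg z hz => ?_) q fun z hz => ?_
    · refine ⟨?_, fun e => hz.2 ?_⟩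
      · have h1 := C.orbit_line hg (x := y) (y := z) (fun e => hz.2 e.symm)
        rwa [C.line_eq h.ne (C.left_mem y w) hz.1 (fun e => hz.2 e.symm)] at h1
      · exact smul_left_cancel g ((Set.mem_singleton_iff.1 e).trans (C.le_stab y g hg).symm)
    · exact C.orbit_A_eq (fun e => hz.2 e.symm) h.1
  have hseq : s = q := by
    by_contra hne
    let Out : Set X := {z | z ∈ ℓ ∧ ¬ C.D x z ≤ S}
    have hT : ∀ z ∈ Out, (S ⊔ C.D x z) ⊓ ⊤ = S ⊔ C.D x z ∧
        Nat.card ↥(S ⊔ C.D x z) = s ^ 3 * i ∧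
        ∀ g ∈ S ⊔ C.D x z, ∃ u ∈ ℓ, g ∈ C.D x u ∧ C.D x u ≤ S ⊔ C.D x z := by
      rintro z ⟨hz, hzS⟩
      have hxz : x ≠ z := fun e => h.not_mem' (e ▸ hz)
      have hcap : S ⊓ C.D x z = I := by
        refine le_antisymm (fun g hg => ?_) (le_inf hIS (C.inf_le_D h hz))
        obtain ⟨u, hu, hgu, huS⟩ := hcovS g hg.1
        have huz : u ≠ z := fun e => hzS (e ▸ huS)
        exact (h.of_pair hu hz huz).2.le ⟨hgu, hg.2⟩
      have hsup := C.card_sup (x := x) S (C.D x z) hSA inf_le_left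
      refine ⟨inf_top_eq _, ?_, fun g hg => ?_⟩
      · refine Nat.eq_of_mul_eq_mul_right hi0 ?_
        have := hsup.2
        rw [hcap, ← hi, hScard, C.card_D hxz h.1, ← hd] at this
        rw [this, ← hsd]; ring
      · obtain ⟨a, ha, b, hb, rfl⟩ := (hsup.1 g).1 hg
        obtain ⟨u, hu, hau, huS⟩ := hcovS a ha
        have huz : u ≠ z := fun e => hzS (e ▸ huS)
        have hp' := h.of_pair hu hz huz
        have hl : C.line u z = ℓ := C.line_eq h.ne hu hz huz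
        obtain ⟨t, ht, htg, htS⟩ := C.cover_pair hp'.1 (Subgroup.mul_mem_sup hau hb)
        exact ⟨t, hl ▸ ht, htg, htS.trans (sup_le_sup_right huS _)⟩
    let O : Finset X := Finset.univ.filter fun z => z ∈ Out
    have hfib : ∀ T ∈ O.image (fun z => S ⊔ C.D x z),
        (O.filter fun z => S ⊔ C.D x z = T).card = s ^ 2 := by
      intro T hTm
      simp only [O, Finset.mem_image, Finset.mem_filter, Finset.mem_univ, true_and] at hTm
      obtain ⟨z, hz, rfl⟩ := hTm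
      obtain ⟨-, hc, hcov⟩ := hT z hz
      have h1 := hN _ (s ^ 3) (hIS.trans le_sup_left) hc hcov
      have e : s ^ 3 - 1 = (s ^ 2 + s + 1) * (s - 1) := by
        have key : ∀ t : ℕ, (t + 1) ^ 3 = ((t + 1) ^ 2 + (t + 1) + 1) * t + 1 := fun t => by ring
        have := key (s - 1)
        rw [Nat.sub_add_cancel (by omega : 1 ≤ s)] at this
        omega
      rw [e] at h1
      have h2 := Nat.eq_of_mul_eq_mul_right (show 0 < s - 1 by omega) h1
      have e2 : ((O.filter fun u => S ⊔ C.D x u = S ⊔ C.D x z : Finset X) : Set X) =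
          {u | u ∈ ℓ ∧ C.D x u ≤ S ⊔ C.D x z} \ {u | u ∈ ℓ ∧ C.D x u ≤ S} := by
        ext u
        simp only [O, Finset.coe_filter, Finset.mem_filter, Finset.mem_univ, true_and,
          Set.mem_setOf_eq, Set.mem_diff, Out, not_and]
        constructor
        · rintro ⟨⟨hu, huS⟩, e⟩
          exact ⟨⟨hu, e ▸ le_sup_right⟩, fun _ => huS⟩
        · rintro ⟨⟨hu, huT⟩, huS⟩
          exact ⟨⟨hu, huS hu⟩, eq_of_le_card (sup_le le_sup_left huT)
            (by rw [(hT u ⟨hu, huS hu⟩).2.1, hc])⟩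
      have h3 : {u | u ∈ ℓ ∧ C.D x u ≤ S} ⊆ {u | u ∈ ℓ ∧ C.D x u ≤ S ⊔ C.D x z} :=
        fun u hu => ⟨hu.1, hu.2.trans le_sup_left⟩
      rw [← Set.ncard_coe_finset, e2, Set.ncard_sdiff h3 (Set.toFinite _), h2, hNS]
      omega
    have hOut : s ^ 2 ∣ Out.ncard := by
      have e : Out.ncard = O.card := by rw [← Set.ncard_coe_finset]; simp [O]
      rw [e, Finset.card_eq_sum_card_image (fun z => S ⊔ C.D x z) O]
      exact Finset.dvd_sum fun T hT => (hfib T hT).symm ▸ dvd_refl _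
    have hk : (ℓ \ {y}).ncard = s + Out.ncard := by
      have h1 : ℓ = {z | z ∈ ℓ ∧ C.D x z ≤ S} ∪ Out := by
        ext z
        refine ⟨fun hz => ?_, fun hz => hz.elim (fun h' => h'.1) (fun h' => h'.1)⟩
        by_cases hS' : C.D x z ≤ S
        · exact Or.inl ⟨hz, hS'⟩
        · exact Or.inr ⟨hz, hS'⟩
      have h2 : Disjoint {z | z ∈ ℓ ∧ C.D x z ≤ S} Out :=
        Set.disjoint_left.2 fun z hz hz' => hz'.2 hz.2
      have h3 : ℓ.ncard = s + 1 + Out.ncard := by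
        conv_lhs => rw [h1]
        rw [Set.ncard_union_eq h2 (Set.toFinite _) (Set.toFinite _), hNS]
      rw [Set.ncard_sdiff_singleton_of_mem (show y ∈ ℓ from C.left_mem y w), h3]
      omega
    obtain ⟨a, ha⟩ := hpq s hsdvd
    obtain ⟨b, hb⟩ := hpq q ⟨d, hqd.symm⟩
    have hab : a + 1 ≤ b := (Nat.pow_lt_pow_iff_right hp.one_lt).1 (ha ▸ hb ▸
      lt_of_le_of_ne hsq hne)
    have ha1 : 1 ≤ a := by
      by_contra h0
      simp [show a = 0 by omega] at ha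
      omega
    have h1 : p ^ (a + 1) ∣ s + Out.ncard := hk ▸ (pow_dvd_pow p hab).trans (hb ▸ hqk)
    have h2 : p ^ (a + 1) ∣ Out.ncard :=
      ((pow_dvd_pow p (show a + 1 ≤ a * 2 by omega)).trans (by rw [pow_mul, ← ha])).trans hOut
    have h3 : p ^ (a + 1) ∣ s := (Nat.dvd_add_left h2).1 h1
    rw [ha] at h3
    have := Nat.le_of_dvd (pow_pos hp.pos a) h3
    exact absurd this (not_le.2 (Nat.pow_lt_pow_right hp.one_lt (Nat.lt_succ_self a)))
  have hSA' : S = C.A x := eq_of_le_card hSA (by rw [hScard, hseq, hqd])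
  refine ⟨?_, hSA', fun g hg => ?_⟩
  · have h1 : {z | z ∈ ℓ ∧ C.D x z ≤ S} = ℓ := by
      ext z; exact ⟨fun hz => hz.1, fun hz => ⟨hz, hSA'.symm ▸ inf_le_left⟩⟩
    rw [← hseq, ← hNS, h1]
  · obtain ⟨z, hz, hgz, -⟩ := hcovS g (hSA'.symm ▸ hg)
    exact ⟨z, hz, hgz.2⟩

end Conf

end Cfsg.Agent.CG26.ONan
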